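import Cfsg.Agent.Mrg.Omega.IId.SymWr.Frame
import Cfsg.Agent.Mrg.Omega.IId.SymWr.LThm
import Cfsg.Agent.Mrg.Omega.IId.Triangle
import Cfsg.Agent.Mrg.Omega.HOneTwo.Basic
import Cfsg.Agent.Mrg.Omega.HT.Main
import Cfsg.Agent.Mrg.Omega.IId.SymWr.Fours
import Cfsg.Agent.Mrg.Omega.IId.M4.Entry
import Cfsg.Agent.Mrg.Omega.IId.LFour.LemO
import Cfsg.Agent.Mrg.Omega.IId.SymWr.SylN.Base
import Cfsg.Agent.Mrg.Omega.IId.SymWr.SylN.One
import Cfsg.Agent.Mrg.Omega.IId.SwB.ESig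
import Cfsg.Agent.Mrg.Omega.IId.Big.Syl.Final
import Cfsg.Agent.Mrg.Omega.IId.SwB.MixedInst

-- merged: Cfsg.Agent.Mrg.Omega.IId.SymWr.Ht.Fr
section

/-!
# II.d, `SwBig`, T-T: the frame for "II.0h1 over `T = C_S(n)`" (bb OMEGA #19775, #19821, #19862, #20002)

`Fr S P V M` : `Sit` + characteristic 2 type + (H1) `O₂(C_G(n)) ≤ P` for all duads `n = pr M p q` + a T-T partner.
* `Fr.Qpp` : `O₂(C_G(n))` acts on the points inside `⟨(p q)⟩`;
* `Fr.V_le` : `V ≤ O₂(C_G(n))`; `Fr.comm_mem` : `[O₂(C_G(n)), V] ≤ ⟨n⟩`; `Fr.V_le_KK` : `V ≤ K_n`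
  (`K_n = Triangle.KK n = {g ∈ C_G(n) : [O₂(C_G(n)), g] ≤ ⟨n⟩}`);
* `Fr.perp` : the elements of `V` commuting with `(p q)` lie in `Ω₁Z(O₂(C_G(n)))`;
* `Fr.exists_h` : the partner for EVERY duad; `Fr.exists_w` : `w ∈ K_n`, `w² = 1`, acting as `(p q)`.
-/

set_option autoImplicit false
set_option linter.unusedSectionVars false

namespace Cfsg.Agent.Omega.IId.SymWr.Ht

open Subgroup Cfsg Cfsg.Agent.Omega.MinPar Cfsg.Agent.Omega.FFThm
open Cfsg.Agent.ZN (o2 zc)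
open Cfsg.Agent.Omega.Half (Amb amb_of_loc)
open Cfsg.Agent.Omega.Half.SymA (Pt E Mv pm)
open Cfsg.Agent.Omega.NSix.Base
open Cfsg.Agent.Omega.IId.LFour.SymF
open Cfsg.Agent.Omega.IId.Triangle (KK mem_KK KK_conj KK_le_o2)
open Cfsg.Agent.MinSimple.VModule (le_normalizer_o2 o2_isPGroup o2_le mem_zc)
open Cfsg.Agent.MinSimple.Geo (mem_o2_of_stab)

universe u

variable {G : Type u} [Group G] {k m : ℕ}

/-- the duad as a label -/
theorem pr_eq_rr {T P V : Subgroup G} {M : SymK T P V ⊥ k m} (hm : 1 ≤ m) {p q : Pt k m} (hpq : p.1 = q.1)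
    (hne : p ≠ q) : pr M p q = rr (lab M hm p.1) p.2 q.2 := by
  have hab : p.2 ≠ q.2 := fun e => hne (Prod.ext hpq e)
  refine Half.SymA.inj M (pr_mem M _ _) (rr_mem_V hm _ _ _) fun r => ?_
  rw [E_pr M hpq, E_rr hm _ hab]
  have e2 : ((p.1, q.2) : Pt k m) = q := Prod.ext hpq rfl
  rw [e2]
  by_cases h1 : r = p
  · have h2 : r ≠ q := fun e => hne (h1.symm.trans e)
    rw [if_pos h1, if_neg h2, if_pos (Or.inl h1), add_zero]
  · by_cases h2 : r = q
    · rw [if_neg h1, if_pos h2, if_pos (Or.inr h2), zero_add]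
    · rw [if_neg h1, if_neg h2, if_neg (not_or.2 ⟨h1, h2⟩), add_zero]

/-- The frame. -/
structure Fr (S : Sylow 2 G) (P V : Subgroup G) (M : SymK (S : Subgroup G) P V ⊥ k m) : Prop
    extends Sit S P V M where
  char2 : IsCharacteristicTwoType G
  Qle : ∀ {p q : Pt k m}, p.1 = q.1 → p ≠ q → o2 (centralizer ({pr M p q} : Set G)) ≤ P
  par : ∃ p q : Pt k m, p.1 = q.1 ∧ p ≠ q ∧ ∃ t ∈ centralizer ({pr M p q} : Set G), ∃ v ∈ V, ∃ w ∈ V,
    v * (t * w * t⁻¹) ≠ (t * w * t⁻¹) * v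

namespace Fr

variable {S : Sylow 2 G} {P V : Subgroup G} {M : SymK (S : Subgroup G) P V ⊥ k m} (h : Fr S P V M)
  {p q : Pt k m}
include h

theorem pr_sq : pr M p q * pr M p q = 1 := h.Vsq (pr_mem M p q)

theorem pr_ne (hpq : p.1 = q.1) (hne : p ≠ q) : pr M p q ≠ 1 := fun e => by
  have h1 := E_pr_left M hpq hne
  rw [e, Half.SymA.E_one M] at h1
  exact zero_ne_one h1

/-- `O₂(C_G(n))` acts inside `⟨(p q)⟩` -/
theorem Qpp (hpq : p.1 = q.1) (hne : p ≠ q) {g : G} (hg : g ∈ o2 (centralizer ({pr M p q} : Set G))) :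
    pp M g = 1 ∨ pp M g = Equiv.swap p q := by
  have hab : p.2 ≠ q.2 := fun e => hne (Prod.ext hpq e)
  have e2 : ((p.1, q.2) : Pt k m) = q := Prod.ext hpq rfl
  have hgP := h.Qle hpq hne hg
  have hle : o2 (NN (lab M h.hm1 p.1) p.2 q.2) ≤ P := by
    have := h.Qle hpq hne
    rwa [pr_eq_rr h.hm1 hpq hne] at this
  have hg' : g ∈ o2 (NN (lab M h.hm1 p.1) p.2 q.2) := by
    have := hg
    rwa [pr_eq_rr h.hm1 hpq hne] at this
  have hpair := (mem_NN_iff h.hm1 h.amb hab hgP).1 (o2_le _ hg')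
  have hin : ∀ r, r ≠ p → r ≠ q → pp M g r = r := fun r h1 h2 =>
    acts_inside h.hm1 h.amb hab hle hg' h1 (by rw [e2]; exact h2)
  rw [e2] at hpair
  have h1 := (hpair p).2 (Or.inl rfl)
  have h2 := (hpair q).2 (Or.inr rfl)
  change pp M g p = p ∨ pp M g p = q at h1
  change pp M g q = p ∨ pp M g q = q at h2
  rcases h1 with h1 | h1
  · left
    have h3 : pp M g q = q := h2.resolve_left fun e => hne ((pp M g).injective (h1.trans e.symm))
    ext1 r
    by_cases e1 : r = p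
    · rw [e1, h1]; rfl
    by_cases e3 : r = q
    · rw [e3, h3]; rfl
    · exact hin r e1 e3
  · right
    have h3 : pp M g q = p := h2.resolve_right fun e => hne ((pp M g).injective (h1.trans e.symm))
    ext1 r
    by_cases e1 : r = p
    · rw [e1, h1, Equiv.swap_apply_left]
    by_cases e3 : r = q
    · rw [e3, h3, Equiv.swap_apply_right]
    · rw [hin r e1 e3, Equiv.swap_apply_of_ne_of_ne e1 e3]

/-- an element acting trivially or as `(p q)` commutes with the perp of the duad -/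
theorem comm_perp_of {g : G} (hgP : g ∈ P) (hg : pp M g = 1 ∨ pp M g = Equiv.swap p q) {v : G} (hv : v ∈ V)
    (hE : E M v p = E M v q) : g * v = v * g := by
  rw [h.comm_iff hgP hv]
  intro r
  rcases hg with e | e
  · rw [e]; rfl
  · rw [e]
    by_cases e1 : r = p
    · rw [e1, Equiv.swap_apply_left, hE]
    by_cases e2 : r = q
    · rw [e2, Equiv.swap_apply_right, hE]
    · rw [Equiv.swap_apply_of_ne_of_ne e1 e2]

theorem perp_comm (hpq : p.1 = q.1) (hne : p ≠ q) {g : G} (hg : g ∈ o2 (centralizer ({pr M p q} : Set G))) {v : G}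
    (hv : v ∈ V) (hE : E M v p = E M v q) : g * v = v * g :=
  h.comm_perp_of (h.Qle hpq hne hg) (h.Qpp hpq hne hg) hv hE

/-- the action of an element inducing `(p q)` -/
theorem conj_swap {g : G} (hgP : g ∈ P) (hpq : p.1 = q.1) (hg : pp M g = Equiv.swap p q) {v : G} (hv : v ∈ V)
    (hE : E M v p ≠ E M v q) : g * v * g⁻¹ = v * pr M p q := by
  refine Half.SymA.inj M (h.amb.conj_mem hgP hv) (mul_mem hv (pr_mem M _ _)) fun r => ?_
  have hne : p ≠ q := fun e => hE (by rw [e])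
  rw [E_conj' hgP hv, Half.SymA.E_mul M hv (pr_mem M _ _), E_pr M hpq, hg, Equiv.swap_inv]
  have key : ∀ x y : ZMod 2, x ≠ y → y = x + 1 := by decide
  by_cases e1 : r = p
  · rw [e1, Equiv.swap_apply_left, if_pos rfl, if_neg hne, add_zero]
    exact key _ _ hE
  by_cases e2 : r = q
  · rw [e2, Equiv.swap_apply_right, if_pos rfl, if_neg hne.symm, zero_add]
    exact key _ _ hE.symm
  · rw [Equiv.swap_apply_of_ne_of_ne e1 e2, if_neg e1, if_neg e2, add_zero, add_zero]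

/-- `[O₂(C_G(n)), V] ≤ ⟨n⟩` -/
theorem comm_mem (hpq : p.1 = q.1) (hne : p ≠ q) {g : G} (hg : g ∈ o2 (centralizer ({pr M p q} : Set G))) {v : G}
    (hv : v ∈ V) : g * v * g⁻¹ = v ∨ g * v * g⁻¹ = v * pr M p q := by
  by_cases hE : E M v p = E M v q
  · left; rw [h.perp_comm hpq hne hg hv hE]; group
  · rcases h.Qpp hpq hne hg with e | e
    · left
      rw [h.comm_perp_of (p := p) (q := p) (h.Qle hpq hne hg) (Or.inl e) hv rfl]; group
    · right; exact h.conj_swap (h.Qle hpq hne hg) hpq e hv hE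

/-- `V ≤ K_n` -/
theorem V_le_KK (hpq : p.1 = q.1) (hne : p ≠ q) : V ≤ KK (pr M p q) := by
  intro v hv
  refine mem_KK.2 ⟨h.Vcomm hv (pr_mem M p q), fun g hg => ?_⟩
  have hvi : ∀ {x : G}, x ∈ V → x⁻¹ = x := fun hx => inv_eq_of_mul_eq_one_left (h.Vsq hx)
  have e : v * g * v⁻¹ * g⁻¹ = v * (g * v * g⁻¹)⁻¹ := by group
  rw [e]
  rcases h.comm_mem hpq hne hg hv with e1 | e1
  · rw [e1, mul_inv_cancel]; exact one_mem _
  · have e2 : v * (v * pr M p q)⁻¹ = (pr M p q)⁻¹ := by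
      rw [h.Vcomm hv (pr_mem M p q)]; group
    rw [e1, e2]; exact inv_mem (mem_zpowers _)

section fin

variable [Finite G]

theorem KK_le (hpq : p.1 = q.1) (hne : p ≠ q) : KK (pr M p q) ≤ o2 (centralizer ({pr M p q} : Set G)) := by
  intro g hg
  have h1 := mem_KK.1 hg
  exact mem_o2_of_stab h.char2 h.pr_sq (h.pr_ne hpq hne) (mem_centralizer_singleton_iff.2 h1.1) h1.2

/-- `V ≤ O₂(C_G(n))` -/
theorem V_le (hpq : p.1 = q.1) (hne : p ≠ q) : V ≤ o2 (centralizer ({pr M p q} : Set G)) :=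
  (h.V_le_KK hpq hne).trans (h.KK_le hpq hne)

/-- the elements of `V` commuting with `(p q)` lie in `Ω₁Z(O₂(C_G(n)))` -/
theorem perp (hpq : p.1 = q.1) (hne : p ≠ q) {v : G} (hv : v ∈ V) (hE : E M v p = E M v q) :
    v ∈ zc (o2 (centralizer ({pr M p q} : Set G))) :=
  mem_zc.2 ⟨h.V_le hpq hne hv, fun g hg => h.perp_comm hpq hne hg hv hE, by rw [pow_two]; exact h.Vsq hv⟩

/-- the partner for every duad: `t ∈ C_G(n)`, and `t v t⁻¹`, `t⁻¹ v t` act as `(p q)` for `v ∈ V` outside the perp -/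
theorem exists_h (hpq : p.1 = q.1) (hne : p ≠ q) : ∃ t ∈ centralizer ({pr M p q} : Set G),
    ∀ v ∈ V, E M v p ≠ E M v q →
      (t * v * t⁻¹ ∈ KK (pr M p q) ∧ pp M (t * v * t⁻¹) = Equiv.swap p q) ∧
      (t⁻¹ * v * t ∈ KK (pr M p q) ∧ pp M (t⁻¹ * v * t) = Equiv.swap p q) := by
  obtain ⟨p', q', hpq', hne', t', ht', v', hv', w', hw', hcc⟩ := h.par
  obtain ⟨g, hg, hgp⟩ := exists_conj_pr h.toSit hpq' hne' hpq hne
  have hcV : ∀ {x : G}, x ∈ V → g * x * g⁻¹ ∈ V := fun hx => h.amb.conj_mem hg hx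
  obtain ⟨t, ht⟩ : ∃ t, t = g * t' * g⁻¹ := ⟨_, rfl⟩
  have htn : t * pr M p q = pr M p q * t := by
    have h1 := mem_centralizer_singleton_iff.1 ht'
    rw [ht, ← hgp]
    calc g * t' * g⁻¹ * (g * pr M p' q' * g⁻¹) = g * (t' * pr M p' q') * g⁻¹ := by group
      _ = g * pr M p' q' * g⁻¹ * (g * t' * g⁻¹) := by rw [h1]; group
  -- noncommuting elements
  obtain ⟨v, hv, w, hw, hvw⟩ : ∃ v ∈ V, ∃ w ∈ V, v * (t * w * t⁻¹) ≠ (t * w * t⁻¹) * v := by
    refine ⟨g * v' * g⁻¹, hcV hv', g * w' * g⁻¹, hcV hw', fun e => hcc ?_⟩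
    rw [ht] at e
    have e1 : g * v' * g⁻¹ * (g * t' * g⁻¹ * (g * w' * g⁻¹) * (g * t' * g⁻¹)⁻¹) =
        g * (v' * (t' * w' * t'⁻¹)) * g⁻¹ := by group
    have e2 : g * t' * g⁻¹ * (g * w' * g⁻¹) * (g * t' * g⁻¹)⁻¹ * (g * v' * g⁻¹) =
        g * (t' * w' * t'⁻¹ * v') * g⁻¹ := by group
    rw [e1, e2] at e
    exact mul_left_cancel (mul_right_cancel e)
  have hKK : ∀ {s : G}, s * pr M p q = pr M p q * s → ∀ x ∈ V, s * x * s⁻¹ ∈ KK (pr M p q) := by
    intro s hs x hx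
    have h1 := KK_conj (h := s) (h.V_le_KK hpq hne hx)
    rwa [show s * pr M p q * s⁻¹ = pr M p q by rw [hs]; group] at h1
  -- the key: `s` with noncommuting elements
  have key : ∀ {s : G}, s * pr M p q = pr M p q * s → ∀ {a b : G}, a ∈ V → b ∈ V →
      a * (s * b * s⁻¹) ≠ (s * b * s⁻¹) * a → ∀ x ∈ V, E M x p ≠ E M x q → pp M (s * x * s⁻¹) = Equiv.swap p q := by
    intro s hs a b ha hb hab x hx hxE
    have hQ := fun y (hy : y ∈ V) => h.KK_le hpq hne (hKK hs y hy)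
    -- the perp of `n` is normalised
    have hperp : ∀ y ∈ V, E M y p = E M y q → pp M (s * y * s⁻¹) = 1 := by
      intro y hy hyE
      rw [h.eq_one_iff (h.Qle hpq hne (hQ y hy)), mem_centralizer_iff]
      intro c hc
      have h2 : s⁻¹ * c * s ∈ o2 (centralizer ({pr M p q} : Set G)) := by
        have h3 : s⁻¹ ∈ centralizer ({pr M p q} : Set G) :=
          inv_mem (mem_centralizer_singleton_iff.2 hs)
        have := (mem_normalizer_iff.1 (le_normalizer_o2 _ h3) c).1 (h.V_le hpq hne hc)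
        rwa [inv_inv] at this
      have h3 := h.perp_comm hpq hne h2 hy hyE
      calc c * (s * y * s⁻¹) = s * (s⁻¹ * c * s * y) * s⁻¹ := by group
        _ = s * (y * (s⁻¹ * c * s)) * s⁻¹ := by rw [h3]
        _ = s * y * s⁻¹ * c := by group
    have hbE : E M b p ≠ E M b q := fun e => by
      have h1 := hperp b hb e
      rw [h.eq_one_iff (h.Qle hpq hne (hQ b hb)), mem_centralizer_iff] at h1
      exact hab (h1 a ha)
    -- `b x` is in the perp
    have hbx : E M (b * x) p = E M (b * x) q := by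
      rw [Half.SymA.E_mul M hb hx, Half.SymA.E_mul M hb hx]
      have k2 : ∀ x y z w : ZMod 2, x ≠ y → z ≠ w → x + z = y + w := by decide
      exact k2 _ _ _ _ hbE hxE
    have h2 := hperp _ (mul_mem hb hx) hbx
    have hb2 : pp M (s * b * s⁻¹) = Equiv.swap p q := by
      refine (h.Qpp hpq hne (hQ b hb)).resolve_left fun e => hab ?_
      rw [h.eq_one_iff (h.Qle hpq hne (hQ b hb)), mem_centralizer_iff] at e
      exact e a ha
    have e : s * x * s⁻¹ = (s * b * s⁻¹)⁻¹ * (s * (b * x) * s⁻¹) := by group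
    rw [e, h.mul (inv_mem (h.Qle hpq hne (hQ b hb))) (h.Qle hpq hne (hQ _ (mul_mem hb hx))),
      h.inv (h.Qle hpq hne (hQ b hb)), h2, hb2, mul_one, Equiv.swap_inv]
  have htn' : t⁻¹ * pr M p q = pr M p q * t⁻¹ := by
    calc t⁻¹ * pr M p q = t⁻¹ * (pr M p q * t) * t⁻¹ := by group
      _ = t⁻¹ * (t * pr M p q) * t⁻¹ := by rw [htn]
      _ = pr M p q * t⁻¹ := by group
  refine ⟨t, mem_centralizer_singleton_iff.2 htn, fun x hx hxE => ⟨⟨hKK htn x hx, ?_⟩, ?_, ?_⟩⟩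
  · exact key htn hv hw hvw x hx hxE
  · have := hKK htn' x hx
    rwa [inv_inv] at this
  · have := key htn' hw hv (fun e => hvw ?_) x hx hxE
    · rwa [inv_inv] at this
    · rw [inv_inv] at e
      calc v * (t * w * t⁻¹) = t * (t⁻¹ * v * t * w) * t⁻¹ := by group
        _ = t * (w * (t⁻¹ * v * t)) * t⁻¹ := by rw [e]
        _ = t * w * t⁻¹ * v := by group

/-- `w ∈ K_n` of order 2 acting as `(p q)` -/
theorem exists_w (hpq : p.1 = q.1) (hne : p ≠ q) : ∃ w ∈ KK (pr M p q), w * w = 1 ∧ pp M w = Equiv.swap p q := by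
  obtain ⟨t, ht, h1⟩ := h.exists_h hpq hne
  obtain ⟨c, hc1, hc2⟩ := Half.SymA.exists_third h.hm1 p.2 q.2
  have hpc : p.1 = ((p.1, c) : Pt k m).1 := rfl
  have hqc : q ≠ (p.1, c) := fun e => hc2 (by rw [e])
  have hpc' : p ≠ (p.1, c) := fun e => hc1 (congrArg Prod.snd e).symm
  have hE : E M (pr M p (p.1, c)) p ≠ E M (pr M p (p.1, c)) q := by
    rw [E_pr_left M hpc hpc', E_pr_of_ne M hpc hne.symm hqc]
    exact one_ne_zero
  obtain ⟨⟨h2, h3⟩, -⟩ := h1 _ (pr_mem M p (p.1, c)) hE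
  refine ⟨_, h2, ?_, h3⟩
  have e : t * pr M p (p.1, c) * t⁻¹ * (t * pr M p (p.1, c) * t⁻¹) =
      t * (pr M p (p.1, c) * pr M p (p.1, c)) * t⁻¹ := by group
  rw [e, h.pr_sq]; group

end fin

end Fr

end Cfsg.Agent.Omega.IId.SymWr.Ht

end

-- merged: Cfsg.Agent.Mrg.Omega.IId.SymWr.Ht.Line
section

section


/-!
# II.d, `SwBig`, T-T: the line `{1, pq, pr, qr}` of three points of one summand

* `Tri p q r` : three different points of one summand; `Fr.line3` : `Ln (pr M p q) (pr M p r)`;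
* `Fr.bt3` : the structure `BT`; `X3 h t = ⟨V_l^{C(x)} : x ∈ V_l#⟩`;
* `Fr.X_le_P`, `Fr.X_fix`, `Fr.X_comm` : `X ≤ P` moves only the points `p, q, r` and centralises the `v ∈ V` which are
  constant on them;
* `tn S M μ x = C_S(x μ(x))`; `Fr.zc_tn` : `Ω₁Z(T) ≤ V`, constant on the `S`-pairs, `0` on the fixed points;
* `Fr.hdec` : `Ω₁Z(T) = ⟨n⟩ Z₀`.
-/

set_option autoImplicit false
set_option linter.unusedSectionVars false

namespace Cfsg.Agent.Omega.IId.SymWr.Ht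

open Subgroup Cfsg Cfsg.Agent.Omega.MinPar Cfsg.Agent.Omega.FFThm
open Cfsg.Agent.ZN (o2 zc)
open Cfsg.Agent.Omega.Half (Amb amb_of_loc)
open Cfsg.Agent.Omega.Half.SymA (Pt E Mv pm)
open Cfsg.Agent.Omega.HT.LineOf (Ln ln pts dd)
open Cfsg.Agent.Omega.BTwo (BT XX WW QQ O2)
open Cfsg.Agent.Omega.IId.Triangle (KK mem_KK KK_conj KK_le_o2)
open Cfsg.Agent.MinSimple.VModule (le_normalizer_o2 o2_isPGroup o2_le mem_zc zc_le)

universe u

variable {G : Type u} [Group G] {k m : ℕ}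

/-- three different points of one summand -/
structure Tri (p q r : Pt k m) : Prop where
  pq : p.1 = q.1
  pr : p.1 = r.1
  n1 : p ≠ q
  n2 : p ≠ r
  n3 : q ≠ r

namespace Tri

variable {p q r : Pt k m} (t : Tri p q r)
include t

theorem qr : q.1 = r.1 := t.pq.symm.trans t.pr

end Tri

namespace Fr

variable {S : Sylow 2 G} {P V : Subgroup G} {M : SymK (S : Subgroup G) P V ⊥ k m} (h : Fr S P V M)
  {p q r : Pt k m}
include h

/-- the line of three points -/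
theorem line3 (t : Tri p q r) : Ln (pr M p q) (pr M p r) where
  aa := h.pr_sq
  bb := h.pr_sq
  comm := h.Vcomm (pr_mem M _ _) (pr_mem M _ _)
  a1 := h.pr_ne t.pq t.n1
  b1 := h.pr_ne t.pr t.n2
  ne := fun e => by
    have h1 : E M (pr M p q) q = 1 := E_pr_right M t.pq t.n1
    rw [e, E_pr_of_ne M t.pr t.n1.symm t.n3] at h1
    exact zero_ne_one h1

theorem dd_two (t : Tri p q r) : pr M p q * pr M p r = pr M q r := by
  rw [pr_comm M t.pq, pr_mul M t.pq.symm t.pr]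

/-- the three points -/
theorem dd_cases (t : Tri p q r) (i : Fin 3) : ∃ a b c : Pt k m, a.1 = b.1 ∧ a.1 = c.1 ∧ a ≠ b ∧ a ≠ c ∧ b ≠ c ∧
    dd (pr M p q) (pr M p r) i = pr M a b ∧ (∃ j, dd (pr M p q) (pr M p r) j = pr M a c) ∧
    (a = p ∨ a = q ∨ a = r) ∧ (b = p ∨ b = q ∨ b = r) := by
  fin_cases i
  · exact ⟨p, q, r, t.pq, t.pr, t.n1, t.n2, t.n3, rfl, ⟨1, rfl⟩, Or.inl rfl, Or.inr (Or.inl rfl)⟩
  · exact ⟨p, r, q, t.pr, t.pq, t.n2, t.n1, t.n3.symm, rfl, ⟨0, rfl⟩, Or.inl rfl, Or.inr (Or.inr rfl)⟩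
  · refine ⟨q, r, p, t.qr, t.pq.symm, t.n3, t.n1.symm, t.n2.symm, h.dd_two t, ⟨0, pr_comm M t.pq⟩,
      Or.inr (Or.inl rfl), Or.inr (Or.inr rfl)⟩

theorem dd_mem_V (t : Tri p q r) (i : Fin 3) : dd (pr M p q) (pr M p r) i ∈ V := by
  obtain ⟨a, b, c, -, -, -, -, -, e, -⟩ := h.dd_cases t i
  rw [e]; exact pr_mem M a b

theorem ln_le (t : Tri p q r) : ln (h.line3 t) ≤ V := by
  rintro x (rfl | ⟨i, rfl⟩)
  · exact one_mem _
  · exact h.dd_mem_V t i

variable [Finite G]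

/-- the structure `BT` -/
theorem bt3 (t : Tri p q r) : BT (ln (h.line3 t)) (pts (pr M p q) (pr M p r)) := by
  refine (h.line3 t).bt (fun i => ?_) (fun i g hg j => ?_) (fun i => ?_)
  · obtain ⟨a, b, c, e1, -, e2, -, -, e, -⟩ := h.dd_cases t i
    rw [e]
    exact (h.ln_le t).trans (h.V_le e1 e2)
  · obtain ⟨a, b, c, e1, -, e2, -, -, e, -⟩ := h.dd_cases t i
    rw [e] at hg
    rw [(h.line3 t).mem_pts, e]
    rcases h.comm_mem e1 e2 hg (h.dd_mem_V t j) with h1 | h1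
    · left; rw [h1, mul_inv_cancel]
    · right
      rw [h1, h.Vcomm (h.dd_mem_V t j) (pr_mem M a b), mul_inv_cancel_right]
  · obtain ⟨a, b, c, e1, e1', e2, e2', e3, e, ⟨j, hj⟩, -⟩ := h.dd_cases t i
    obtain ⟨s, hs, h1⟩ := h.exists_h e1 e2
    have hE : E M (pr M a c) a ≠ E M (pr M a c) b := by
      rw [E_pr_left M e1' e2', E_pr_of_ne M e1' e2.symm e3]
      exact one_ne_zero
    obtain ⟨⟨h2, h3⟩, -⟩ := h1 _ (pr_mem M a c) hE
    refine ⟨s, by rw [e]; exact hs, j, j, fun h4 => ?_⟩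
    rw [hj] at h4
    have h5 := h.conj_swap (h.Qle e1 e2 (h.KK_le e1 e2 h2)) e1 h3 (pr_mem M a c) hE
    rw [mul_inv_eq_iff_eq_mul] at h5
    rw [h4] at h5
    have h6 : s * pr M a c * s⁻¹ = pr M a b * (s * pr M a c * s⁻¹) := by
      apply mul_left_cancel (a := pr M a c)
      rw [h5, mul_assoc]
    have h7 : pr M a b = 1 := by
      have := mul_right_cancel (h6.symm.trans (one_mul _).symm)
      exact this
    exact h.pr_ne e1 e2 h7

/-- `X` -/
noncomputable abbrev X3 (h : Fr S P V M) (t : Tri p q r) : Subgroup G := XX (ln (h.line3 t)) (pts (pr M p q) (pr M p r))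

/-- `X` lies in every subgroup containing the `O₂(C_G(x))` -/
theorem X_le (t : Tri p q r) {H : Subgroup G}
    (hH : ∀ a b : Pt k m, (a = p ∨ a = q ∨ a = r) → (b = p ∨ b = q ∨ b = r) → a.1 = b.1 → a ≠ b →
      o2 (centralizer ({pr M a b} : Set G)) ≤ H) : h.X3 t ≤ H := by
  refine iSup_le fun i => ?_
  obtain ⟨a, b, c, e1, -, e2, -, -, e, -, ha, hb⟩ := h.dd_cases t i
  refine ((h.bt3 t).W_le_Q i).trans ?_
  show O2 (normalizer (pts (pr M p q) (pr M p r) i : Set G)) ≤ H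
  rw [(h.line3 t).normalizer_pts i, e]
  exact hH a b ha hb e1 e2

theorem X_le_P (t : Tri p q r) : h.X3 t ≤ P := h.X_le t fun _ _ _ _ h1 h2 => h.Qle h1 h2

/-- `X` moves only `p, q, r` -/
theorem X_fix (t : Tri p q r) {g : G} (hg : g ∈ h.X3 t) {s : Pt k m} (h1 : s ≠ p) (h2 : s ≠ q) (h3 : s ≠ r) :
    pp M g s = s := by
  let H : Subgroup G :=
    { carrier := {g | g ∈ P ∧ pp M g s = s}
      one_mem' := ⟨one_mem _, by rw [h.one]; rfl⟩
      mul_mem' := by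
        rintro a b ⟨ha, ha1⟩ ⟨hb, hb1⟩
        refine ⟨mul_mem ha hb, ?_⟩
        rw [h.mul ha hb, Equiv.Perm.mul_apply, hb1, ha1]
      inv_mem' := by
        rintro a ⟨ha, ha1⟩
        refine ⟨inv_mem ha, ?_⟩
        rw [h.inv ha, Equiv.Perm.inv_eq_iff_eq, ha1] }
  have hle : h.X3 t ≤ H := by
    refine h.X_le t fun a b ha hb e1 e2 y hy => ⟨h.Qle e1 e2 hy, ?_⟩
    have hsa : s ≠ a := by rcases ha with rfl | rfl | rfl <;> assumption
    have hsb : s ≠ b := by rcases hb with rfl | rfl | rfl <;> assumption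
    rcases h.Qpp e1 e2 hy with e | e
    · rw [e]; rfl
    · rw [e, Equiv.swap_apply_of_ne_of_ne hsa hsb]
  exact (hle hg).2

/-- `X` centralises the elements of `V` which are constant on `p, q, r` -/
theorem X_comm (t : Tri p q r) {v : G} (hv : v ∈ V) (h1 : E M v p = E M v q) (h2 : E M v p = E M v r) {g : G}
    (hg : g ∈ h.X3 t) : g * v = v * g := by
  have hle : h.X3 t ≤ centralizer ({v} : Set G) := by
    refine h.X_le t fun a b ha hb e1 e2 y hy => ?_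
    rw [mem_centralizer_singleton_iff]
    refine h.perp_comm e1 e2 hy hv ?_
    have key : ∀ c, (c = p ∨ c = q ∨ c = r) → E M v c = E M v p := by
      rintro c (rfl | rfl | rfl)
      · rfl
      · exact h1.symm
      · exact h2.symm
    rw [key a ha, key b hb]
  exact mem_centralizer_singleton_iff.1 (hle hg)

end Fr

/-! ### `T = C_S(n)` -/

/-- `C_S(x μ(x))` -/
def tn (S : Sylow 2 G) {P V : Subgroup G} (M : SymK (S : Subgroup G) P V ⊥ k m) (μ : Equiv.Perm (Pt k m))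
    (x : Pt k m) : Subgroup G := (S : Subgroup G) ⊓ centralizer ({pr M x (μ x)} : Set G)

namespace Fr

variable {S : Sylow 2 G} {P V : Subgroup G} {M : SymK (S : Subgroup G) P V ⊥ k m} (h : Fr S P V M)
  {μ ν : Equiv.Perm (Pt k m)} (F : Fours M μ ν) {x : Pt k m} (hx : x.2 ≠ 0)
include h F hx

/-- the points `x`, `μ x`, `0` -/
theorem tri : Tri x (μ x) (x.1, 0) where
  pq := (F.mfst x).symm
  pr := rfl
  n1 := (F.mne x hx).symm
  n2 := fun e => hx (congrArg Prod.snd e)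
  n3 := fun e => hx (F.mnz.1 (congrArg Prod.snd e))

theorem tn_pp {s : G} (hs : s ∈ tn S M μ x) : (pp M s x = x ∧ pp M s (μ x) = μ x) ∨
    (pp M s x = μ x ∧ pp M s (μ x) = x) := by
  have t := h.tri F hx
  have hsP := h.SP hs.1
  have h1 := (h.comm_iff hsP (pr_mem M x (μ x))).1 (mem_centralizer_singleton_iff.1 hs.2)
  have key : ∀ c, E M (pr M x (μ x)) c = 1 → c = x ∨ c = μ x := by
    intro c hc
    by_contra hcon
    push Not at hcon
    rw [E_pr_of_ne M t.pq hcon.1 hcon.2] at hc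
    exact zero_ne_one hc
  have h2 := key _ ((h1 x).trans (E_pr_left M t.pq t.n1))
  have h3 := key _ ((h1 (μ x)).trans (E_pr_right M t.pq t.n1))
  rcases h2 with h2 | h2
  · exact Or.inl ⟨h2, h3.resolve_left fun e => t.n1 ((pp M s).injective (h2.trans e.symm))⟩
  · exact Or.inr ⟨h2, h3.resolve_right fun e => t.n1 ((pp M s).injective (h2.trans e.symm))⟩

omit h F hx in
theorem zero_eq {y z : Pt k m} (h1 : y.1 = z.1) (h2 : y.2 = 0) : y = (z.1, 0) := Prod.ext h1 h2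

/-- the fixed point of `S` in the summand is fixed -/
theorem tn_zero {s : G} (hs : s ∈ tn S M μ x) : pp M s (x.1, 0) = (x.1, 0) := by
  have hsP := h.SP hs.1
  have h1 : (pp M s (x.1, 0)).2 = 0 := (h.snd hs.1).2 rfl
  have h2 : (pp M s (x.1, 0)).1 = (pp M s x).1 := h.fst hsP rfl
  have h3 : (pp M s x).1 = x.1 := by
    rcases h.tn_pp F hx hs with e | e
    · rw [e.1]
    · rw [e.1, F.mfst]
  exact Prod.ext (h2.trans h3) h1

/-- `T` normalises the line -/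
theorem tn_norm [Finite G] : tn S M μ x ≤ normalizer (ln (h.line3 (h.tri F hx)) : Set G) := by
  have t := h.tri F hx
  intro s hs
  have hsP := h.SP hs.1
  refine BTwo.mem_normalizer_of_conj ?_
  have h0 := h.tn_zero F hx hs
  have e0 : dd (pr M x (μ x)) (pr M x (x.1, 0)) 0 = pr M x (μ x) := rfl
  have e1 : dd (pr M x (μ x)) (pr M x (x.1, 0)) 1 = pr M x (x.1, 0) := rfl
  have e2 : dd (pr M x (μ x)) (pr M x (x.1, 0)) 2 = pr M (μ x) (x.1, 0) := h.dd_two t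
  rintro y (rfl | ⟨i, rfl⟩)
  · left; group
  · right
    have k0 : s * pr M x (μ x) * s⁻¹ = pr M (pp M s x) (pp M s (μ x)) := h.conj_pr hsP t.pq
    have k1 : s * pr M x (x.1, 0) * s⁻¹ = pr M (pp M s x) (pp M s (x.1, 0)) := h.conj_pr hsP t.pr
    have k2 : s * pr M (μ x) (x.1, 0) * s⁻¹ = pr M (pp M s (μ x)) (pp M s (x.1, 0)) := h.conj_pr hsP t.qr
    rw [h0] at k1 k2
    rcases h.tn_pp F hx hs with ⟨a1, a2⟩ | ⟨a1, a2⟩
    · rw [a1, a2] at k0
      rw [a1] at k1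
      rw [a2] at k2
      fin_cases i
      · exact ⟨0, k0⟩
      · exact ⟨1, k1⟩
      · refine ⟨2, ?_⟩
        show s * dd (pr M x (μ x)) (pr M x (x.1, 0)) 2 * s⁻¹ = _
        rw [e2, k2]
    · rw [a1, a2, pr_comm M t.pq.symm] at k0
      rw [a1] at k1
      rw [a2] at k2
      fin_cases i
      · exact ⟨0, k0⟩
      · refine ⟨2, ?_⟩
        rw [e2]; exact k1
      · refine ⟨1, ?_⟩
        show s * dd (pr M x (μ x)) (pr M x (x.1, 0)) 2 * s⁻¹ = _
        rw [e2, k2, e1]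

theorem V_le_tn : V ≤ tn S M μ x := fun _ hv =>
  ⟨h.VS hv, mem_centralizer_singleton_iff.2 (h.Vcomm hv (pr_mem M _ _))⟩

theorem Q_le_tn : o2 P ≤ tn S M μ x := fun y hy => by
  refine ⟨h.QS hy, mem_centralizer_singleton_iff.2 ?_⟩
  have h1 : y ∈ centralizer (V : Set G) := by
    have := h.Q_eq ▸ hy
    exact this.2
  exact (mem_centralizer_iff.1 h1 _ (pr_mem M _ _)).symm

/-- the elements of `T` acting as `(c μ(c))` -/
theorem exists_swap [Finite G] {c : Pt k m} (hc : c.2 ≠ 0) : ∃ s ∈ tn S M μ x, pp M s = Equiv.swap c (μ c) := by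
  have hmem : Equiv.swap c (μ c) ∈ F.FA := by
    intro y
    by_cases h1 : y = c
    · rw [h1, Equiv.swap_apply_left]; exact Or.inr rfl
    by_cases h2 : y = μ c
    · rw [h2, Equiv.swap_apply_right, F.msq]; exact Or.inr rfl
    · rw [Equiv.swap_apply_of_ne_of_ne h1 h2]; exact Or.inl rfl
  obtain ⟨s, hs, e⟩ := Fours.exists_A h.toSit F hmem
  refine ⟨s, ⟨hs.1, mem_centralizer_singleton_iff.2 (h.comm_pr (h.SP hs.1) (F.mfst x).symm ?_)⟩, e⟩
  rw [e]
  by_cases h1 : x = c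
  · right
    rw [← h1, Equiv.swap_apply_left, Equiv.swap_apply_right]
    exact ⟨rfl, rfl⟩
  by_cases h2 : x = μ c
  · right
    have h3 : c = μ x := by rw [h2, F.msq]
    rw [← h3, ← h2, Equiv.swap_apply_right, Equiv.swap_apply_left]
    exact ⟨rfl, rfl⟩
  · left
    have h3 : μ x ≠ c := fun e => h2 (by rw [← e, F.msq])
    have h4 : μ x ≠ μ c := fun e => h1 (μ.injective e)
    exact ⟨Equiv.swap_apply_of_ne_of_ne h1 h2, Equiv.swap_apply_of_ne_of_ne h3 h4⟩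

variable (zv : zc (o2 P) ≤ V)
include zv

/-- `C(T)` : involutions centralising `Q` lie in `V` -/
theorem mem_V_of {z : G} (hz : z * z = 1) (hQ : ∀ y ∈ o2 P, y * z = z * y) : z ∈ V :=
  zv (mem_zc.2 ⟨h.cQ (mem_centralizer_iff.2 fun y hy => hQ y hy), fun y hy => hQ y hy, by rw [pow_two]; exact hz⟩)

theorem zc_tn_le : zc (tn S M μ x) ≤ V := fun z hz => by
  have h1 := mem_zc.1 hz
  exact h.mem_V_of F hx zv (by rw [← pow_two]; exact h1.2.2) fun y hy => h1.2.1 y (h.Q_le_tn F hx hy)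

theorem zc_tn_mu [Finite G] {z : G} (hz : z ∈ zc (tn S M μ x)) (c : Pt k m) : E M z (μ c) = E M z c := by
  by_cases hc : c.2 = 0
  · rw [F.mzero c hc]
  obtain ⟨s, hs, e⟩ := h.exists_swap F hx hc
  have h1 := (h.comm_iff (h.SP hs.1) (h.zc_tn_le F hx zv hz)).1 ((mem_zc.1 hz).2.1 s hs) c
  rwa [e, Equiv.swap_apply_left] at h1

theorem zc_tn_zero [Finite G] {z : G} (hz : z ∈ zc (tn S M μ x)) (i : Fin k) : E M z (i, 0) = 0 := by
  have hzV := h.zc_tn_le F hx zv hz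
  have h1 : ∑ y, E M z (i, y) = 0 := M.even z hzV i
  have h2 : ∑ y ∈ Finset.univ.erase (0 : Fin (2 ^ m + 1)), E M z (i, y) = 0 := by
    refine Finset.sum_involution (fun y _ => (μ (i, y)).2) ?_ ?_ ?_ ?_
    · intro y _
      have e : ((i, (μ (i, y)).2) : Pt k m) = μ (i, y) := Prod.ext (F.mfst (i, y)).symm rfl
      rw [e, h.zc_tn_mu F hx zv hz]
      exact CharTwo.add_self_eq_zero _
    · intro y hy hne e
      have hy0 : ((i, y) : Pt k m).2 ≠ 0 := (Finset.mem_erase.1 hy).1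
      exact F.mne (i, y) hy0 (Prod.ext (F.mfst (i, y)) e)
    · intro y hy
      have hy0 : ((i, y) : Pt k m).2 ≠ 0 := (Finset.mem_erase.1 hy).1
      exact Finset.mem_erase.2 ⟨fun e => hy0 (F.mnz.1 e), Finset.mem_univ _⟩
    · intro y hy
      have e : ((i, (μ (i, y)).2) : Pt k m) = μ (i, y) := Prod.ext (F.mfst (i, y)).symm rfl
      show (μ (i, (μ (i, y)).2)).2 = y
      rw [e, F.msq]
  rw [← Finset.add_sum_erase _ _ (Finset.mem_univ (0 : Fin (2 ^ m + 1))), h2, add_zero] at h1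
  exact h1

/-- `Ω₁Z(T) = ⟨n⟩ Z₀` -/
theorem hdec [Finite G] {z : G} (hz : z ∈ zc (tn S M μ x)) : ∃ v ∈ ln (h.line3 (h.tri F hx)), ∃ c,
    (∀ y ∈ h.X3 (h.tri F hx), y * c = c * y) ∧ (∀ t ∈ tn S M μ x, t * c = c * t) ∧ z = v * c := by
  have t := h.tri F hx
  have hzV := h.zc_tn_le F hx zv hz
  have h0 := h.zc_tn_zero F hx zv hz x.1
  have h1 := h.zc_tn_mu F hx zv hz x
  by_cases hE : E M z x = 0
  · refine ⟨1, one_mem _, z, fun y hy => h.X_comm t hzV h1.symm (by rw [hE, h0]) hy, (mem_zc.1 hz).2.1,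
      (one_mul z).symm⟩
  · have hE1 : E M z x = 1 := by
      have : ∀ y : ZMod 2, y ≠ 0 → y = 1 := by decide
      exact this _ hE
    have hn := pr_mem M x (μ x)
    have hV := mul_mem hn hzV
    have hadd := Half.SymA.E_mul M hn hzV
    refine ⟨pr M x (μ x), (h.line3 t).dd_mem 0, pr M x (μ x) * z, fun y hy => h.X_comm t hV ?_ ?_ hy, ?_, ?_⟩
    · rw [hadd, hadd, E_pr_left M t.pq t.n1, E_pr_right M t.pq t.n1, h1]
    · rw [hadd, hadd, E_pr_left M t.pq t.n1, E_pr_of_ne M t.pq t.n2.symm t.n3.symm, h0, hE1]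
      decide
    · intro s hs
      have k1 := (mem_zc.1 hz).2.1 s hs
      have k2 := mem_centralizer_singleton_iff.1 hs.2
      calc s * (pr M x (μ x) * z) = (s * pr M x (μ x)) * z := by group
        _ = pr M x (μ x) * (s * z) := by rw [k2]; group
        _ = pr M x (μ x) * z * s := by rw [k1]; group
    · rw [← mul_assoc, h.pr_sq, one_mul]

end Fr

end Cfsg.Agent.Omega.IId.SymWr.Ht

end

section


/-!
# II.d, `SwBig`, T-T: LEMMA J (bb OMEGA #20002, helper666) and the structure `HTT` over `T = C_S(n)`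

Hypotheses: `zv` : `Ω₁Z(O₂(P)) ≤ V`; `syl` : `T` has odd index in `C_G(n)`.
* `Fr.lemJ` : `K` normalised by `T` and `X`, `N_K(V_l)` trivial on `V_l`, `⟹` `T` has odd index in `T K`;
* `Fr.htt` : `HTT T (T ⊔ X) V_l R 0`; `Fr.core` : `Core` for every `z ∈ Z₀`.
-/

set_option autoImplicit false
set_option linter.unusedSectionVars false

namespace Cfsg.Agent.Omega.IId.SymWr.Ht

open Subgroup Cfsg Cfsg.Agent.Omega.MinPar Cfsg.Agent.Omega.FFThm
open Cfsg.Agent.ZN (o2 zc)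
open Cfsg.Agent.Omega.Half (Amb amb_of_loc)
open Cfsg.Agent.Omega.Half.SymA (Pt E Mv pm)
open Cfsg.Agent.Omega.HT.LineOf (Ln ln pts dd)
open Cfsg.Agent.Omega.BTwo (BT XX WW QQ O2)
open Cfsg.Agent.MinSimple.VModule (le_normalizer_o2 o2_isPGroup o2_le mem_zc zc_le)

universe u

variable {G : Type u} [Group G] [Finite G] {k m : ℕ}

namespace Fr

variable {S : Sylow 2 G} {P V : Subgroup G} {M : SymK (S : Subgroup G) P V ⊥ k m} (h : Fr S P V M)
  {μ ν : Equiv.Perm (Pt k m)} (F : Fours M μ ν) {x : Pt k m} (hx : x.2 ≠ 0)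
  (zv : zc (o2 P) ≤ V) (syl : ¬ 2 ∣ (tn S M μ x).relIndex (centralizer ({pr M x (μ x)} : Set G)))
include h F hx zv syl

omit h F hx zv syl in
theorem tn_p : IsPGroup 2 (tn S M μ x) := S.isPGroup'.to_le inf_le_left

/-- **LEMMA J** -/
theorem lemJ {K : Subgroup G} (hT : tn S M μ x ≤ normalizer (K : Set G))
    (hK : ∀ g ∈ K, g ∈ normalizer (ln (h.line3 (h.tri F hx)) : Set G) →
      g ∈ centralizer (ln (h.line3 (h.tri F hx)) : Set G)) :
    ¬ 2 ∣ (tn S M μ x).relIndex (tn S M μ x ⊔ K) := by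
  have t := h.tri F hx
  intro hdvd
  obtain ⟨R, hTR, hRle, hR, hRodd⟩ := HT.exists_syl (S := tn S M μ x) (P := tn S M μ x ⊔ K) tn_p le_sup_left
  have hlt : tn S M μ x < R := by
    refine lt_of_le_of_ne hTR fun e => hRodd ?_
    rw [← e]; exact hdvd
  obtain ⟨g, hgR, hgN, hgT, hg2⟩ := MinSimple.Choice97.exists_normalizing hR hlt
  obtain ⟨s, hs, b, hb, rfl⟩ := mem_sup_norm hT (hRle hgR)
  -- `b` normalises `T`
  have hbN : b ∈ normalizer (tn S M μ x : Set G) := by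
    have h1 := mul_mem (inv_mem (le_normalizer hs)) hgN
    rwa [inv_mul_cancel_left] at h1
  have hbT : b ∉ tn S M μ x := fun e => hgT (mul_mem hs e)
  have hbR : b ∈ R := by
    have h1 := mul_mem (inv_mem (hTR hs)) hgR
    rwa [inv_mul_cancel_left] at h1
  have hTb : ∀ c ∈ tn S M μ x, b * c * b⁻¹ ∈ tn S M μ x := fun c hc => (mem_normalizer_iff.1 hbN c).1 hc
  have hTb' : ∀ c ∈ tn S M μ x, b⁻¹ * c * b ∈ tn S M μ x := fun c hc => by
    have := (mem_normalizer_iff.1 (inv_mem hbN) c).1 hc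
    rwa [inv_inv] at this
  have hKs : ∀ c ∈ tn S M μ x, ∀ y ∈ K, c * y * c⁻¹ ∈ K := fun c hc y hy => (mem_normalizer_iff.1 (hT hc) y).1 hy
  -- `[b, c] ∈ K ∩ T`
  have hcomm : ∀ c ∈ tn S M μ x, c⁻¹ * b * c * b⁻¹ ∈ K ⊓ tn S M μ x := fun c hc => by
    refine mem_inf.2 ⟨?_, ?_⟩
    · have h1 := hKs c⁻¹ (inv_mem hc) b hb
      rw [inv_inv] at h1
      exact mul_mem h1 (inv_mem hb)
    · have h1 := mul_mem (inv_mem hc) (hTb c hc)
      have e : c⁻¹ * (b * c * b⁻¹) = c⁻¹ * b * c * b⁻¹ := by group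
      rwa [e] at h1
  -- the elements of `V` commuting with `K ∩ T`
  have hW : ∀ v ∈ V, (∀ c ∈ K ⊓ tn S M μ x, c * v = v * c) →
      b * v * b⁻¹ ∈ V ∧ ∀ c ∈ K ⊓ tn S M μ x, c * (b * v * b⁻¹) = b * v * b⁻¹ * c := by
    intro v hv hc
    have hb1 : ∀ c ∈ K ⊓ tn S M μ x, b⁻¹ * c * b ∈ K ⊓ tn S M μ x := fun c hc =>
      mem_inf.2 ⟨mul_mem (mul_mem (inv_mem hb) hc.1) hb, hTb' c hc.2⟩
    have hcom : ∀ c ∈ K ⊓ tn S M μ x, c * (b * v * b⁻¹) = b * v * b⁻¹ * c := by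
      intro c hc1
      have h1 := hc _ (hb1 c hc1)
      calc c * (b * v * b⁻¹) = b * (b⁻¹ * c * b * v) * b⁻¹ := by group
        _ = b * (v * (b⁻¹ * c * b)) * b⁻¹ := by rw [h1]
        _ = b * v * b⁻¹ * c := by group
    refine ⟨h.mem_V_of F hx zv ?_ ?_, hcom⟩
    · have hvv := h.Vsq hv
      calc b * v * b⁻¹ * (b * v * b⁻¹) = b * (v * v) * b⁻¹ := by group
        _ = 1 := by rw [hvv]; group
    · intro y hy
      have hyT := h.Q_le_tn F hx hy
      have hyv : y * v = v * y := by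
        have h1 : y ∈ centralizer (V : Set G) := by
          have := h.Q_eq ▸ hy
          exact this.2
        exact (mem_centralizer_iff.1 h1 v hv).symm
      have h1 : b⁻¹ * (y⁻¹ * b * y * b⁻¹) * b ∈ K ⊓ tn S M μ x := hb1 _ (hcomm y hyT)
      have h2 := hc _ h1
      -- `b⁻¹ y b = y (b⁻¹ y⁻¹ b y b⁻¹ b)⁻¹ ...`
      have e1 : b⁻¹ * y * b = y * (b⁻¹ * (y⁻¹ * b * y * b⁻¹) * b)⁻¹ := by group
      have h3 : (b⁻¹ * (y⁻¹ * b * y * b⁻¹) * b)⁻¹ * v = v * (b⁻¹ * (y⁻¹ * b * y * b⁻¹) * b)⁻¹ :=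
        ((show Commute _ v from h2).inv_left).eq
      have h4 : b⁻¹ * y * b * v = v * (b⁻¹ * y * b) := by
        rw [e1, mul_assoc, h3, ← mul_assoc, hyv, mul_assoc]
      calc y * (b * v * b⁻¹) = b * (b⁻¹ * y * b * v) * b⁻¹ := by group
        _ = b * (v * (b⁻¹ * y * b)) * b⁻¹ := by rw [h4]
        _ = b * v * b⁻¹ * y := by group
  -- the points of the line
  have hT1 : ∀ v ∈ ln (h.line3 t), ∀ c ∈ K ⊓ tn S M μ x, c * v = v * c := fun v hv c hc =>
    (mem_centralizer_iff.1 (hK c hc.1 (h.tn_norm F hx hc.2)) v hv).symm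
  have hAl : pr M x (μ x) ∈ ln (h.line3 t) := (h.line3 t).dd_mem 0
  have hBl : pr M x (x.1, 0) ∈ ln (h.line3 t) := (h.line3 t).dd_mem 1
  obtain ⟨hA', -⟩ := hW _ (pr_mem M _ _) (hT1 _ hAl)
  obtain ⟨hB', hB''⟩ := hW _ (pr_mem M _ _) (hT1 _ hBl)
  obtain ⟨A, hA⟩ : ∃ A, A = pr M x (μ x) := ⟨_, rfl⟩
  obtain ⟨B, hB⟩ : ∃ B, B = pr M x (x.1, 0) := ⟨_, rfl⟩
  rw [← hA] at hA'
  rw [← hB] at hB' hB''
  -- the transposition
  obtain ⟨τ, hτ, hτp⟩ := h.exists_swap F hx hx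
  have hτP := h.SP hτ.1
  have hEB : E M B x ≠ E M B (μ x) := by
    rw [hB, E_pr_left M t.pr t.n2, E_pr_of_ne M t.pr t.n1.symm t.n3]
    exact one_ne_zero
  have hBV : B ∈ V := by rw [hB]; exact pr_mem M _ _
  have k1 : τ * B * τ⁻¹ = B * A := by
    rw [h.conj_swap hτP t.pq hτp hBV hEB, hA]
  -- `b τ b⁻¹ = τ c`
  obtain ⟨c, hc⟩ : ∃ c, c = τ⁻¹ * b * τ * b⁻¹ := ⟨_, rfl⟩
  have hcK : c ∈ K ⊓ tn S M μ x := by rw [hc]; exact hcomm τ hτ
  have k2 : τ * (b * B * b⁻¹) * τ⁻¹ = b * B * b⁻¹ * (b * A * b⁻¹) := by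
    have k3 := hB'' c hcK
    calc τ * (b * B * b⁻¹) * τ⁻¹ = τ * (b * B * b⁻¹ * c) * c⁻¹ * τ⁻¹ := by group
      _ = τ * (c * (b * B * b⁻¹)) * c⁻¹ * τ⁻¹ := by rw [k3]
      _ = b * (τ * B * τ⁻¹) * b⁻¹ := by rw [hc]; group
      _ = b * B * b⁻¹ * (b * A * b⁻¹) := by rw [k1]; group
  have hA1 : A ≠ 1 := by rw [hA]; exact h.pr_ne t.pq t.n1
  have hbA1 : b * A * b⁻¹ ≠ 1 := fun e => hA1 (conj_eq_one_iff.1 e)
  have k4 : b * A * b⁻¹ = A := by
    by_cases hE : E M (b * B * b⁻¹) x = E M (b * B * b⁻¹) (μ x)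
    · exfalso
      have h1 := h.comm_perp_of (p := x) (q := μ x) hτP (Or.inr hτp) hB' hE
      rw [h1, mul_inv_cancel_right] at k2
      exact hbA1 (mul_left_cancel (k2.symm.trans (mul_one _).symm))
    · have h1 := h.conj_swap hτP t.pq hτp hB' hE
      rw [h1, ← hA] at k2
      exact (mul_left_cancel k2).symm
  -- `T ⟨b⟩ ≤ C(n)`
  have hbC : b ∈ centralizer ({pr M x (μ x)} : Set G) := by
    rw [← hA, mem_centralizer_singleton_iff]
    exact mul_inv_eq_iff_eq_mul.1 k4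
  have hle : tn S M μ x ⊔ zpowers b ≤ centralizer ({pr M x (μ x)} : Set G) :=
    sup_le inf_le_right (by rw [zpowers_le]; exact hbC)
  have hp : IsPGroup 2 (tn S M μ x ⊔ zpowers b : Subgroup G) :=
    hR.to_le (sup_le hTR (by rw [zpowers_le]; exact hbR))
  have h1 := HT.card_dvd_card (inf_le_right : tn S M μ x ≤ _) syl hp hle
  have h2 : tn S M μ x = tn S M μ x ⊔ zpowers b := eq_of_le_of_card_ge le_sup_left (Nat.le_of_dvd Nat.card_pos h1)
  exact hbT (h2.symm.le (mem_sup_right (mem_zpowers b)))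

/-- LEMMA J in the form of `LineOf.loc_of`, `LineOf.core_of_J` -/
theorem lemJ' {K : Subgroup G} (hT : tn S M μ x ≤ normalizer (K : Set G))
    (hX : h.X3 (h.tri F hx) ≤ normalizer (K : Set G))
    (hK : ∀ g ∈ K, ∃ n : ℕ, g ^ 2 ^ n ∈ centralizer (ln (h.line3 (h.tri F hx)) : Set G)) :
    ¬ 2 ∣ (tn S M μ x).relIndex (tn S M μ x ⊔ K) :=
  h.lemJ F hx zv syl hT fun _ hg hgN =>
    (h.line3 (h.tri F hx)).cen_of (h.bt3 (h.tri F hx)) hX (fun g hg _ => hK g hg) hg hgN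

/-- the structure `HTT` over `T = C_S(n)` -/
theorem htt : HT.HTT (tn S M μ x) (tn S M μ x ⊔ h.X3 (h.tri F hx)) (ln (h.line3 (h.tri F hx)))
    (pts (pr M x (μ x)) (pr M x (x.1, 0))) 0 := by
  have t := h.tri F hx
  refine (h.line3 t).htt (h.bt3 t) h.char2 tn_p syl inf_le_right (h.tn_norm F hx)
    (fun z hz => h.hdec F hx zv hz) ?_
  intro M' hTM hXM _ _
  exact HT.LineOf.loc_of (h.line3 t) (h.bt3 t) tn_p (h.tn_norm F hx)
    (fun K h1 h2 h3 => h.lemJ' F hx zv syl h1 h2 h3) hTM hXM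

/-- the point `R 0` -/
theorem R_zero : ∀ y, y ∈ pts (pr M x (μ x)) (pr M x (x.1, 0)) 0 ↔ y = 1 ∨ y = pr M x (μ x) := fun _ =>
  (h.line3 (h.tri F hx)).mem_pts

/-- `O₂(M_z / C(U_z)) = 1` for every `z ∈ Z₀` -/
theorem core {z : G} (hz : z ∈ zc (tn S M μ x) ⊓
    centralizer ((tn S M μ x ⊔ h.X3 (h.tri F hx) : Subgroup G) : Set G)) :
    HT.Main.Core (ln (h.line3 (h.tri F hx))) (pts (pr M x (μ x)) (pr M x (x.1, 0))) 0 (pr M x (μ x)) z :=
  HT.LineOf.core_of_J (h.htt F hx zv syl) (h.R_zero F hx zv syl) hz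
    fun K h1 h2 h3 => h.lemJ' F hx zv syl h1 h2 h3

end Fr

end Cfsg.Agent.Omega.IId.SymWr.Ht

end

section


/-!
# II.d, `SwBig`, T-T: the sibling `34` of the duad `12`

* `mem_tn_iff` : `T = C_S(12)` is the stabiliser of `{1, 2}` in `S`; `tn_nu` : `C_S(12) = C_S(34)`;
* `Fr.sib_mem` : `34 ∈ Z₀`; `Fr.odd_MZ` : `T` has odd index in `⟨C(Ω₁Z(T)), X⟩`.
-/

set_option autoImplicit false
set_option linter.unusedSectionVars false

namespace Cfsg.Agent.Omega.IId.SymWr.Ht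

open Subgroup Cfsg Cfsg.Agent.Omega.MinPar Cfsg.Agent.Omega.FFThm
open Cfsg.Agent.ZN (o2 zc)
open Cfsg.Agent.Omega.Half (Amb amb_of_loc)
open Cfsg.Agent.Omega.Half.SymA (Pt E Mv pm)
open Cfsg.Agent.Omega.HT.LineOf (Ln ln pts dd)
open Cfsg.Agent.Omega.BTwo (BT XX WW QQ O2)
open Cfsg.Agent.MinSimple.VModule (le_normalizer_o2 o2_isPGroup o2_le mem_zc zc_le)

universe u

variable {G : Type u} [Group G] [Finite G] {k m : ℕ}

namespace Fr

variable {S : Sylow 2 G} {P V : Subgroup G} {M : SymK (S : Subgroup G) P V ⊥ k m} (h : Fr S P V M)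
  {μ ν : Equiv.Perm (Pt k m)} (F : Fours M μ ν) {x : Pt k m} (hx : x.2 ≠ 0)
include h F hx

theorem mem_tn_iff {s : G} : s ∈ tn S M μ x ↔ s ∈ (S : Subgroup G) ∧ (pp M s x = x ∨ pp M s x = μ x) := by
  constructor
  · intro hs
    refine ⟨hs.1, ?_⟩
    rcases h.tn_pp F hx hs with e | e
    · exact Or.inl e.1
    · exact Or.inr e.1
  · rintro ⟨hs, e⟩
    refine mem_inf.2 ⟨hs, mem_centralizer_singleton_iff.2 (h.comm_pr (h.SP hs) (F.mfst x).symm ?_)⟩
    have h1 := F.meqv s hs x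
    rcases e with e | e
    · left
      rw [e] at h1
      exact ⟨e, h1⟩
    · right
      rw [e, F.msq] at h1
      exact ⟨e, h1⟩

theorem nu_ne : (ν x).2 ≠ 0 := fun e => hx (F.nnz.1 e)

/-- `C_S(12) = C_S(34)` -/
theorem tn_nu : tn S M μ (ν x) = tn S M μ x := by
  have hn := h.nu_ne F hx
  have key : ∀ {y : Pt k m}, y.2 ≠ 0 → ∀ s ∈ (S : Subgroup G), (pp M s y = y ∨ pp M s y = μ y) →
      (pp M s (ν y) = ν y ∨ pp M s (ν y) = μ (ν y)) := by
    intro y hy s hs e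
    rcases F.neqv s hs y with e1 | e1 <;> rcases e with e | e <;> rw [e] at e1
    · exact Or.inl e1
    · exact Or.inr (e1.trans (F.comm y).symm)
    · exact Or.inr e1
    · left
      rw [e1, ← F.comm, F.msq]
  ext s
  rw [h.mem_tn_iff F hx, h.mem_tn_iff F hn]
  constructor
  · rintro ⟨hs, e⟩
    refine ⟨hs, ?_⟩
    have h1 := key hn s hs e
    rwa [F.nsq] at h1
  · rintro ⟨hs, e⟩
    exact ⟨hs, key hx s hs e⟩

/-- the elements of `V` which vanish on the line and commute with `T` lie in `Z₀` -/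
theorem mem_Z0 {c : G} (hc : c ∈ V) (hT : ∀ s ∈ tn S M μ x, s * c = c * s) (h1 : E M c x = 0)
    (h2 : E M c (μ x) = 0) (h3 : E M c (x.1, 0) = 0) :
    c ∈ zc (tn S M μ x) ⊓ centralizer ((tn S M μ x ⊔ h.X3 (h.tri F hx) : Subgroup G) : Set G) := by
  refine mem_inf.2 ⟨mem_zc.2 ⟨h.V_le_tn F hx hc, hT, by rw [pow_two]; exact h.Vsq hc⟩, ?_⟩
  have hle : tn S M μ x ⊔ h.X3 (h.tri F hx) ≤ centralizer ({c} : Set G) := by
    refine sup_le (fun s hs => mem_centralizer_singleton_iff.2 (hT s hs)) fun y hy =>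
      mem_centralizer_singleton_iff.2 (h.X_comm (h.tri F hx) hc (by rw [h1, h2]) (by rw [h1, h3]) hy)
  exact mem_centralizer_iff.2 fun y hy => mem_centralizer_singleton_iff.1 (hle hy)

/-- `34 ∈ Z₀` -/
theorem sib_mem : pr M (ν x) (μ (ν x)) ∈ zc (tn S M μ x) ⊓
    centralizer ((tn S M μ x ⊔ h.X3 (h.tri F hx) : Subgroup G) : Set G) := by
  have hn := h.nu_ne F hx
  have e1 : (ν x).1 = (μ (ν x)).1 := (F.mfst _).symm
  refine h.mem_Z0 F hx (pr_mem M _ _) (fun s hs => ?_) ?_ ?_ ?_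
  · rw [← h.tn_nu F hx] at hs
    exact mem_centralizer_singleton_iff.1 hs.2
  · refine E_pr_of_ne M e1 (fun e => F.nne x hx e.symm) (fun e => F.nmu x hx ?_)
    have := congrArg μ e
    rw [F.msq] at this
    exact this.symm
  · refine E_pr_of_ne M e1 (fun e => F.nmu x hx e.symm) (fun e => F.nne x hx (μ.injective e).symm)
  · refine E_pr_of_ne M e1 (fun e => hn ?_) (fun e => hn ?_)
    · rw [← e]
    · rw [← F.mnz, ← e]

theorem sib_ne : pr M (ν x) (μ (ν x)) ≠ 1 :=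
  h.pr_ne (F.mfst _).symm (F.mne _ (h.nu_ne F hx)).symm

variable (zv : zc (o2 P) ≤ V)
  (syl : ∀ {y : Pt k m}, y.2 ≠ 0 → ¬ 2 ∣ (tn S M μ y).relIndex (centralizer ({pr M y (μ y)} : Set G)))
include zv syl

/-- `T` has odd index in `⟨C(Ω₁Z(T)), X⟩` -/
theorem odd_MZ : ¬ 2 ∣ (tn S M μ x).relIndex
    (HT.JunAB.MZ (tn S M μ x) (ln (h.line3 (h.tri F hx))) (pts (pr M x (μ x)) (pr M x (x.1, 0)))) := by
  have hn := h.nu_ne F hx
  have b := h.htt F hx zv (syl hx)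
  have h1 := HT.JunAB.MZ_le b (h.sib_mem F hx)
  have h2 : tn S M μ x ≤
      HT.JunAB.MZ (tn S M μ x) (ln (h.line3 (h.tri F hx))) (pts (pr M x (μ x)) (pr M x (x.1, 0))) := by
    refine le_trans (fun t ht => ?_) le_sup_left
    exact mem_centralizer_iff.2 fun y hy => ((mem_zc.1 hy).2.1 t ht).symm
  intro hd
  apply syl hn
  rw [h.tn_nu F hx, ← relIndex_mul_relIndex _ _ _ h2 h1]
  exact hd.mul_right _

end Fr

end Cfsg.Agent.Omega.IId.SymWr.Ht

end

section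


/-!
# II.d, `SwBig`, `T`-`T`: LEMMA E over `T = C_S(n)` in the frame `Ht.Fr` (bb OMEGA #19821, (LE))
-/

set_option autoImplicit false

namespace Cfsg.Agent.Omega.IId.SymWr.Ht.LEFr

open Subgroup Cfsg Cfsg.Agent.Omega.MinPar Cfsg.Agent.Omega.FFThm
open Cfsg.Agent.ZN (o2 zc)
open Cfsg.Agent.Omega.Half.SymA (Pt E Mv pm)
open Cfsg.Agent.Omega.HT.LineOf (Ln ln pts dd)
open Cfsg.Agent.Omega.BTwo (BTS XX WW QQ O2)
open Cfsg.Agent.Omega.HTwo (ThmA.LE)

universe u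

variable {G : Type u} [Group G] [Finite G] {k m : ℕ} {S : Sylow 2 G} {P V : Subgroup G}
  {M : SymK (S : Subgroup G) P V ⊥ k m} (h : Fr S P V M)

include h

/-- the facts about duads -/
theorem dd_of : LE.Dd M where
  act := fun _ _ e1 e2 _ hg => ⟨h.Qle e1 e2 hg, h.Qpp e1 e2 hg⟩
  V_le := fun _ _ e1 e2 => h.V_le e1 e2
  perp := fun _ _ e1 e2 _ hv hE _ hg => h.perp_comm e1 e2 hg hv hE

/-- **LEMMA E for the line of three letters** -/
theorem le3 (zv : zc (o2 P) ≤ V) {p q r : Pt k m} (t : Tri p q r)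
    (B : BTS (ln (h.line3 t)) (pts (pr M p q) (pr M p r)))
    (hTL : (S : Subgroup G) ⊓ centralizer ({pr M p q} : Set G) ≤ normalizer (ln (h.line3 t) : Set G))
    (hQS : o2 (centralizer ({pr M p q} : Set G)) ≤ (S : Subgroup G)) (j : Fin 3) :
    Cfsg.Agent.Omega.HTwo.ThmA.LE (ln (h.line3 t)) (pts (pr M p q) (pr M p r)) j := by
  refine LE.le_all h.toSit (dd_of h) zv t.pq t.pr t.n1 t.n2 t.n3 B (i0 := 0) (i1 := 1) (i2 := 2) rfl rfl ?_ hTL
    hQS j
  show zpowers (dd (pr M p q) (pr M p r) 2) = _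
  rw [show dd (pr M p q) (pr M p r) 2 = pr M q r from h.dd_two t]

/-- **LEMMA E over `T = C_S(n)`**, `n = pr M x (μ x)` an `S`-duad -/
theorem le_tn (zv : zc (o2 P) ≤ V) {μ ν : Equiv.Perm (Pt k m)} (F : Fours M μ ν) {x : Pt k m} (hx : x.2 ≠ 0)
    (B : BTS (ln (h.line3 (h.tri F hx))) (pts (pr M x (μ x)) (pr M x (x.1, 0))))
    (syl : ¬ 2 ∣ (tn S M μ x).relIndex (centralizer ({pr M x (μ x)} : Set G))) (j : Fin 3) :
    Cfsg.Agent.Omega.HTwo.ThmA.LE (ln (h.line3 (h.tri F hx))) (pts (pr M x (μ x)) (pr M x (x.1, 0))) j := by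
  refine le3 h zv (h.tri F hx) B (h.tn_norm F hx) ?_ j
  have h1 : o2 (centralizer ({pr M x (μ x)} : Set G)) ≤ tn S M μ x :=
    HT.LemE.le_of_odd (S.isPGroup'.to_le inf_le_left) inf_le_right syl
      (MinSimple.VModule.o2_isPGroup _) (MinSimple.VModule.o2_le _)
      (inf_le_right.trans (MinSimple.VModule.le_normalizer_o2 _))
  exact h1.trans inf_le_left

end Cfsg.Agent.Omega.IId.SymWr.Ht.LEFr

end

end

-- merged: Cfsg.Agent.Mrg.Omega.IId.SwB.SideSym
section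

/-!
# II.d, `SwBig`: the side `Side` of a sum of even-subset modules (bb OMEGA #20414 (8), helper290)

`h : Sit S P V M`, `F : Fours M μ ν`, `x.2 ≠ 0`, `n = pr M x (μ x)`, `T = C_S(n)`; `zv : Ω₁Z(O₂(P)) ≤ V`;
`syl` : `T` has odd index in `C_G(n)`.

* `L3 M p q r` : the elements of `V` which vanish outside `p, q, r`; `D3 h p q r` : the elements of `P` which move only
  `p, q, r`; `ml3` : `L3` as `RMod (ZMod 2)`; `exists_lift3`;
* `lemJ` : LEMMA J without a partner; `split`; `exists_pair` (`k ≥ 2`);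
* **`side`** : `Side (ml3 ..) n T (D3 ..)`.
-/

set_option autoImplicit false
set_option linter.unusedSectionVars false

namespace Cfsg.Agent.Omega.IId.SwB.SymS

open Subgroup Cfsg Cfsg.Agent.Omega.MinPar Cfsg.Agent.Omega.FFThm Cfsg.Agent.Omega.IId.SymWr
open Cfsg.Agent.ZN (o2 zc)
open Cfsg.Agent.Lib.SL2Mat
open Cfsg.Agent.Omega.Half (Amb amb_of_loc)
open Cfsg.Agent.Omega.Half.SymA (Pt E Mv pm E_mul E_one E_inv zmod2)
open Cfsg.Agent.Omega.IId.SymWr.Ht (tn Tri)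
open Cfsg.Agent.Omega.Mix (RMod)
open Cfsg.Agent.Omega.NatPair (ap)
open Cfsg.Agent.MinSimple.VModule (le_normalizer_o2 o2_isPGroup o2_le mem_zc zc_le)

universe u

variable {G : Type u} [Group G] {k m : ℕ}

/-! ### `L3` -/

section L3

variable {S P V : Subgroup G} (M : SymK S P V ⊥ k m) (p q r : Pt k m)

/-- the elements of `V` which vanish outside `p, q, r` -/
def L3 : Subgroup G where
  carrier := {v | v ∈ V ∧ ∀ s, s ≠ p → s ≠ q → s ≠ r → E M v s = 0}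
  one_mem' := ⟨one_mem _, fun s _ _ _ => E_one M s⟩
  mul_mem' := by
    rintro a b ⟨ha, ha1⟩ ⟨hb, hb1⟩
    refine ⟨mul_mem ha hb, fun s h1 h2 h3 => ?_⟩
    rw [E_mul M ha hb, ha1 s h1 h2 h3, hb1 s h1 h2 h3, add_zero]
  inv_mem' := by
    rintro a ⟨ha, ha1⟩
    refine ⟨inv_mem ha, fun s h1 h2 h3 => ?_⟩
    rw [E_inv M ha, ha1 s h1 h2 h3]

variable {M p q r}

theorem L3_le : L3 M p q r ≤ V := fun _ hv => hv.1

/-- the element with the coordinates `u 0 + u 1, u 0, u 1` -/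
noncomputable def e3 (M : SymK S P V ⊥ k m) (p q r : Pt k m) (u : Fin 2 → ZMod 2) : G := sc (u 0) (pr M p q) * sc (u 1) (pr M p r)

theorem e3_mem (u : Fin 2 → ZMod 2) : e3 M p q r u ∈ V := mul_mem (sc_mem (pr_mem M _ _)) (sc_mem (pr_mem M _ _))

theorem E_e3 (u : Fin 2 → ZMod 2) (s : Pt k m) :
    E M (e3 M p q r u) s = u 0 * E M (pr M p q) s + u 1 * E M (pr M p r) s := by
  rw [e3, E_mul M (sc_mem (pr_mem M _ _)) (sc_mem (pr_mem M _ _)), E_sc, E_sc]

/-- the coordinates -/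
def w3 (u : Fin 2 → ZMod 2) : Fin 3 → ZMod 2 := ![u 0 + u 1, u 0, u 1]

theorem w3_lift : ∀ a b c d : ZMod 2, a * d - b * c = 1 → ∃ σ : Equiv.Perm (Fin 3),
    ∀ u : Fin 2 → ZMod 2, ∀ i, w3 ![a * u 0 + b * u 1, c * u 0 + d * u 1] (σ i) = w3 u i := by
  decide +kernel

/-- two elements of `V` with the same coordinates at `q, r` and outside `p, q, r` are equal -/
theorem ext3 (M : SymK S P V ⊥ k m) (t : Tri p q r) {v w : G} (hv : v ∈ V) (hw : w ∈ V) (h : ∀ s, s ≠ p → E M v s = E M w s) :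
    v = w := by
  have hvw : v * w⁻¹ ∈ V := mul_mem hv (inv_mem hw)
  have h0 : ∀ s, s ≠ p → E M (v * w⁻¹) s = 0 := by
    intro s hs
    rw [E_mul M hv (inv_mem hw), E_inv M hw, h s hs]
    exact CharTwo.add_self_eq_zero _
  have h1 : E M (v * w⁻¹) p = 0 := by
    have h2 : ∑ y, E M (v * w⁻¹) (p.1, y) = 0 := M.even _ hvw p.1
    rw [Fintype.sum_eq_single p.2 (fun y hy => h0 _ fun e => hy (congrArg Prod.snd e))] at h2
    exact h2
  have h3 : v * w⁻¹ = 1 := Half.SymA.eq_one M hvw fun s => by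
    by_cases hs : s = p
    · rw [hs]; exact h1
    · exact h0 s hs
  exact mul_inv_eq_one.1 h3

variable (t : Tri p q r)
include t

theorem E_e3_p (u : Fin 2 → ZMod 2) : E M (e3 M p q r u) p = u 0 + u 1 := by
  rw [E_e3, E_pr_left M t.pq t.n1, E_pr_left M t.pr t.n2, mul_one, mul_one]

theorem E_e3_q (u : Fin 2 → ZMod 2) : E M (e3 M p q r u) q = u 0 := by
  rw [E_e3, E_pr_right M t.pq t.n1, E_pr_of_ne M t.pr t.n1.symm t.n3, mul_one, mul_zero, add_zero]

theorem E_e3_r (u : Fin 2 → ZMod 2) : E M (e3 M p q r u) r = u 1 := by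
  rw [E_e3, E_pr_right M t.pr t.n2, E_pr_of_ne M t.pq t.n2.symm t.n3.symm, mul_one, mul_zero, zero_add]

theorem E_e3_of_ne (u : Fin 2 → ZMod 2) {s : Pt k m} (h1 : s ≠ p) (h2 : s ≠ q) (h3 : s ≠ r) :
    E M (e3 M p q r u) s = 0 := by
  rw [E_e3, E_pr_of_ne M t.pq h1 h2, E_pr_of_ne M t.pr h1 h3, mul_zero, mul_zero, add_zero]

theorem e3_add (u w : Fin 2 → ZMod 2) : e3 M p q r (u + w) = e3 M p q r u * e3 M p q r w := by
  refine ext3 M t (e3_mem _) (mul_mem (e3_mem _) (e3_mem _)) fun s _ => ?_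
  rw [E_mul M (e3_mem _) (e3_mem _), E_e3, E_e3, E_e3, Pi.add_apply, Pi.add_apply]
  ring

theorem e3_inj : Function.Injective (e3 M p q r) := by
  intro u w h
  funext i
  fin_cases i
  · have h1 := E_e3_q (M := M) t u
    rw [h, E_e3_q t] at h1
    exact h1.symm
  · have h1 := E_e3_r (M := M) t u
    rw [h, E_e3_r t] at h1
    exact h1.symm

theorem mem_L3 {g : G} : g ∈ L3 M p q r ↔ ∃ u, e3 M p q r u = g := by
  constructor
  · rintro ⟨hg, h1⟩
    refine ⟨![E M g q, E M g r], ext3 M t (e3_mem _) hg fun s hs => ?_⟩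
    by_cases hq : s = q
    · rw [hq, E_e3_q t]; rfl
    by_cases hr : s = r
    · rw [hr, E_e3_r t]; rfl
    rw [E_e3_of_ne t _ hs hq hr, h1 s hs hq hr]
  · rintro ⟨u, rfl⟩
    exact ⟨e3_mem _, fun s h1 h2 h3 => E_e3_of_ne t u h1 h2 h3⟩

end L3

/-! ### `D3` -/

section D3

variable {S : Sylow 2 G} {P V : Subgroup G} {M : SymK (S : Subgroup G) P V ⊥ k m} (h : Sit S P V M)
  {p q r : Pt k m}
include h

/-- the elements of `P` which move only `p, q, r` -/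
def D3 (h : Sit S P V M) (p q r : Pt k m) : Subgroup G where
  carrier := {g | g ∈ P ∧ ∀ s, s ≠ p → s ≠ q → s ≠ r → pp M g s = s}
  one_mem' := ⟨one_mem _, fun s _ _ _ => by rw [h.one]; rfl⟩
  mul_mem' := by
    rintro a b ⟨ha, ha1⟩ ⟨hb, hb1⟩
    refine ⟨mul_mem ha hb, fun s h1 h2 h3 => ?_⟩
    rw [h.mul ha hb, Equiv.Perm.mul_apply, hb1 s h1 h2 h3, ha1 s h1 h2 h3]
  inv_mem' := by
    rintro a ⟨ha, ha1⟩
    refine ⟨inv_mem ha, fun s h1 h2 h3 => ?_⟩
    rw [h.inv ha, Equiv.Perm.inv_eq_iff_eq, ha1 s h1 h2 h3]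

theorem D3_le : D3 h p q r ≤ P := fun _ hg => hg.1

/-- elements which preserve the vanishing set normalise `L3` -/
theorem norm_L3 {g : G} (hg : g ∈ P) (h1 : ∀ s, s ≠ p → s ≠ q → s ≠ r →
    pp M g s ≠ p ∧ pp M g s ≠ q ∧ pp M g s ≠ r) (h2 : ∀ s, pp M g s ≠ p → pp M g s ≠ q → pp M g s ≠ r →
    s ≠ p ∧ s ≠ q ∧ s ≠ r) : g ∈ normalizer (L3 M p q r : Set G) := by
  rw [mem_normalizer_iff]
  intro v
  constructor
  · rintro ⟨hv, hv1⟩
    refine ⟨h.amb.conj_mem hg hv, fun s a b c => ?_⟩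
    obtain ⟨s', rfl⟩ := (pp M g).surjective s
    rw [E_conj (M := M) hg hv]
    obtain ⟨a', b', c'⟩ := h2 s' a b c
    exact hv1 s' a' b' c'
  · rintro ⟨hv, hv1⟩
    have hvV : v ∈ V := by
      have := h.amb.conj_mem (inv_mem hg) hv
      have e : g⁻¹ * (g * v * g⁻¹) * g⁻¹⁻¹ = v := by group
      rwa [e] at this
    refine ⟨hvV, fun s a b c => ?_⟩
    rw [← E_conj (M := M) hg hvV]
    obtain ⟨a', b', c'⟩ := h1 s a b c
    exact hv1 _ a' b' c'

theorem D3_norm : D3 h p q r ≤ normalizer (L3 M p q r : Set G) := by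
  intro g hg
  refine norm_L3 h hg.1 (fun s a b c => ?_) (fun s a b c => ?_)
  · rw [hg.2 s a b c]
    exact ⟨a, b, c⟩
  · have h1 := (pp M g).injective (hg.2 _ a b c)
    rw [← h1]
    exact ⟨a, b, c⟩

/-- `D3` centralises the elements of `V` which are constant on `p, q, r` -/
theorem D3_comm {g : G} (hg : g ∈ D3 h p q r) {v : G} (hv : v ∈ V) (h1 : E M v p = E M v q)
    (h2 : E M v p = E M v r) : g * v = v * g := by
  rw [h.comm_iff hg.1 hv]
  have key : ∀ s, s = p ∨ s = q ∨ s = r → E M v s = E M v p := by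
    rintro s (rfl | rfl | rfl)
    · rfl
    · exact h1.symm
    · exact h2.symm
  intro s
  by_cases hs : s = p ∨ s = q ∨ s = r
  · rw [key s hs]
    refine key _ ?_
    by_contra hcon
    push Not at hcon
    have h3 := (pp M g).injective (hg.2 _ hcon.1 hcon.2.1 hcon.2.2)
    rw [h3] at hcon
    exact hcon.1 (hs.resolve_right fun h4 => h4.elim hcon.2.1 hcon.2.2)
  · push Not at hs
    rw [hg.2 s hs.1 hs.2.1 hs.2.2]

variable (t : Tri p q r)
include t

/-- **`D3` induces `SL₂(2)` on `L3`** -/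
theorem exists_lift3 (A : Matrix.SpecialLinearGroup (Fin 2) (ZMod 2)) :
    ∃ g ∈ D3 h p q r, ∀ u, g * e3 M p q r u * g⁻¹ = e3 M p q r (ap A u) := by
  classical
  obtain ⟨σ, hσ⟩ := w3_lift _ _ _ _ (LFour.MixedW.ent_mul_eq A)
  let ι : Fin 3 ↪ Pt k m := ⟨![p, q, r], by
    intro i j hij
    fin_cases i <;> fin_cases j
    · rfl
    · exact absurd hij t.n1
    · exact absurd hij t.n2
    · exact absurd hij t.n1.symm
    · rfl
    · exact absurd hij t.n3
    · exact absurd hij t.n2.symm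
    · exact absurd hij t.n3.symm
    · rfl⟩
  have hι : ∀ s, s ∉ Set.range ι ↔ s ≠ p ∧ s ≠ q ∧ s ≠ r := by
    intro s
    constructor
    · intro hs
      exact ⟨fun e => hs ⟨0, e.symm⟩, fun e => hs ⟨1, e.symm⟩, fun e => hs ⟨2, e.symm⟩⟩
    · rintro ⟨h1, h2, h3⟩ ⟨i, hi⟩
      fin_cases i
      · exact h1 hi.symm
      · exact h2 hi.symm
      · exact h3 hi.symm
  have hι1 : ∀ i, (ι i).1 = p.1 := by
    intro i
    fin_cases i
    · rfl
    · exact t.pq.symm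
    · exact t.pr.symm
  have hE : ∀ u i, E M (e3 M p q r u) (ι i) = w3 u i := by
    intro u i
    fin_cases i
    · exact E_e3_p t u
    · exact E_e3_q t u
    · exact E_e3_r t u
  set π : Equiv.Perm (Pt k m) := σ.viaFintypeEmbedding ι with hπ
  have hπ1 : ∀ i, π (ι i) = ι (σ i) := fun i => Equiv.Perm.viaFintypeEmbedding_apply_image σ ι i
  have hπ2 : ∀ s, s ∉ Set.range ι → π s = s := fun s hs => Equiv.Perm.viaFintypeEmbedding_apply_notMem_range σ ι hs
  obtain ⟨g, hg, hgπ⟩ := h.exists_pp (π := π) (by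
    intro s
    by_cases hs : s ∈ Set.range ι
    · obtain ⟨i, rfl⟩ := hs
      rw [hπ1, hι1, hι1]
    · rw [hπ2 s hs])
  refine ⟨g, ⟨hg, fun s h1 h2 h3 => ?_⟩, fun u => ?_⟩
  · rw [hgπ]
    exact hπ2 s ((hι s).2 ⟨h1, h2, h3⟩)
  · refine Half.SymA.inj M (h.amb.conj_mem hg (e3_mem _)) (e3_mem _) fun s => ?_
    obtain ⟨s, rfl⟩ := π.surjective s
    have h1 := E_conj (M := M) hg (e3_mem (M := M) (p := p) (q := q) (r := r) u) s
    rw [hgπ] at h1
    rw [h1]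
    by_cases hs : s ∈ Set.range ι
    · obtain ⟨i, rfl⟩ := hs
      rw [hπ1, hE, hE]
      exact (hσ u i).symm
    · rw [hπ2 s hs]
      obtain ⟨a, b, c⟩ := (hι s).1 hs
      rw [E_e3_of_ne t _ a b c, E_e3_of_ne t _ a b c]

/-- `L3` as a module for `SL₂(2)` -/
noncomputable def ml3 (h : Sit S P V M) (t : Tri p q r) : RMod (ZMod 2) (L3 M p q r) (normalizer (L3 M p q r : Set G)) :=
  LFour.MixedW.four (e := e3 M p q r) (e3_add t) (e3_inj t) (fun _ => mem_L3 t)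
    (fun A => by
      obtain ⟨g, -, hg⟩ := exists_lift3 h t A
      exact ⟨g, hg⟩)

theorem ml3_e (u : Fin 2 → ZMod 2) : (ml3 h t).e u = e3 M p q r u := rfl

theorem e3_10 : e3 M p q r ![1, 0] = pr M p q := by
  show sc 1 _ * sc 0 _ = _
  rw [sc_one, sc_zero, mul_one]

theorem mem_line3 {g : G} : g ∈ (ml3 h t).line ![1, 0] ↔ g = 1 ∨ g = pr M p q := by
  rw [RMod.mem_line]
  constructor
  · rintro ⟨c, rfl⟩
    have hc : c = 0 ∨ c = 1 := by revert c; decide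
    rcases hc with rfl | rfl
    · left
      rw [zero_smul]
      exact (ml3 h t).e_zero
    · right
      rw [one_smul, ml3_e, e3_10 h t]
  · rintro (rfl | rfl)
    · refine ⟨0, ?_⟩
      rw [zero_smul]
      exact (ml3 h t).e_zero
    · refine ⟨1, ?_⟩
      rw [one_smul, ml3_e, e3_10 h t]

end D3

/-! ### `T = C_S(n)` -/

section tn

variable {S : Sylow 2 G} {P V : Subgroup G} {M : SymK (S : Subgroup G) P V ⊥ k m} (h : Sit S P V M)
  {μ ν : Equiv.Perm (Pt k m)} (F : Fours M μ ν) {x : Pt k m} (hx : x.2 ≠ 0)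

include h in
theorem pr_sq {p q : Pt k m} : pr M p q * pr M p q = 1 := h.Vsq (pr_mem M p q)

include h in
/-- an element acting as `(p q)` -/
theorem conj_swap {g : G} (hg : g ∈ P) {p q : Pt k m} (hpq : p.1 = q.1) (hgp : pp M g = Equiv.swap p q) {v : G}
    (hv : v ∈ V) (hE : E M v p ≠ E M v q) : g * v * g⁻¹ = v * pr M p q := by
  classical
  refine Half.SymA.inj M (h.amb.conj_mem hg hv) (mul_mem hv (pr_mem M p q)) fun r => ?_
  rw [E_conj' hg hv, hgp, Equiv.swap_inv, E_mul M hv (pr_mem M p q), E_pr M hpq]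
  have h3 : ∀ a b : ZMod 2, a ≠ b → a = b + 1 := by decide
  have hne : p ≠ q := fun e => hE (by rw [e])
  rcases eq_or_ne r p with rfl | hr
  · rw [Equiv.swap_apply_left, if_pos rfl, if_neg hne, add_zero]
    exact h3 _ _ hE.symm
  · rcases eq_or_ne r q with rfl | hr'
    · rw [Equiv.swap_apply_right, if_neg hne.symm, if_pos rfl, zero_add]
      exact h3 _ _ hE
    · rw [Equiv.swap_apply_of_ne_of_ne hr hr', if_neg hr, if_neg hr', add_zero, add_zero]

include h in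
theorem comm_swap {g : G} (hg : g ∈ P) {p q : Pt k m} (hgp : pp M g = Equiv.swap p q) {v : G} (hv : v ∈ V)
    (hE : E M v p = E M v q) : g * v = v * g := by
  rw [h.comm_iff hg hv, hgp]
  intro r
  rcases eq_or_ne r p with rfl | hr
  · rw [Equiv.swap_apply_left, hE]
  · rcases eq_or_ne r q with rfl | hr'
    · rw [Equiv.swap_apply_right, hE]
    · rw [Equiv.swap_apply_of_ne_of_ne hr hr']

include h in
theorem pr_ne {p q : Pt k m} (hpq : p.1 = q.1) (hne : p ≠ q) : pr M p q ≠ 1 := fun e => by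
  have h1 := E_pr_left M hpq hne
  rw [e, E_one] at h1
  exact zero_ne_one h1

include F hx in
/-- the points `x`, `μ x`, `0` -/
theorem tri : Tri x (μ x) (x.1, 0) where
  pq := (F.mfst x).symm
  pr := rfl
  n1 := (F.mne x hx).symm
  n2 := fun e => hx (congrArg Prod.snd e)
  n3 := fun e => hx (F.mnz.1 (congrArg Prod.snd e))

include h F hx

theorem tn_pp {s : G} (hs : s ∈ tn S M μ x) : (pp M s x = x ∧ pp M s (μ x) = μ x) ∨
    (pp M s x = μ x ∧ pp M s (μ x) = x) := by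
  have t := tri F hx
  have hsP := h.SP hs.1
  have h1 := (h.comm_iff hsP (pr_mem M x (μ x))).1 (mem_centralizer_singleton_iff.1 hs.2)
  have key : ∀ c, E M (pr M x (μ x)) c = 1 → c = x ∨ c = μ x := by
    intro c hc
    by_contra hcon
    push Not at hcon
    rw [E_pr_of_ne M t.pq hcon.1 hcon.2] at hc
    exact zero_ne_one hc
  have h2 := key _ ((h1 x).trans (E_pr_left M t.pq t.n1))
  have h3 := key _ ((h1 (μ x)).trans (E_pr_right M t.pq t.n1))
  rcases h2 with h2 | h2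
  · exact Or.inl ⟨h2, h3.resolve_left fun e => t.n1 ((pp M s).injective (h2.trans e.symm))⟩
  · exact Or.inr ⟨h2, h3.resolve_right fun e => t.n1 ((pp M s).injective (h2.trans e.symm))⟩

/-- the fixed point of `S` in the summand is fixed -/
theorem tn_zero {s : G} (hs : s ∈ tn S M μ x) : pp M s (x.1, 0) = (x.1, 0) := by
  have hsP := h.SP hs.1
  have h1 : (pp M s (x.1, 0)).2 = 0 := (h.snd hs.1).2 rfl
  have h2 : (pp M s (x.1, 0)).1 = (pp M s x).1 := h.fst hsP rfl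
  have h3 : (pp M s x).1 = x.1 := by
    rcases tn_pp h F hx hs with e | e
    · rw [e.1]
    · rw [e.1, F.mfst]
  exact Prod.ext (h2.trans h3) h1

/-- `T` normalises `L3` -/
theorem tn_norm : tn S M μ x ≤ normalizer (L3 M x (μ x) (x.1, 0) : Set G) := by
  intro s hs
  have h0 := tn_zero h F hx hs
  have hinj := (pp M s).injective
  refine norm_L3 h (h.SP hs.1) (fun c a b d => ?_) (fun c a b d => ?_)
  · refine ⟨fun e => ?_, fun e => ?_, fun e => d (hinj (e.trans h0.symm))⟩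
    · rcases tn_pp h F hx hs with ⟨a1, a2⟩ | ⟨a1, a2⟩
      · exact a (hinj (e.trans a1.symm))
      · exact b (hinj (e.trans a2.symm))
    · rcases tn_pp h F hx hs with ⟨a1, a2⟩ | ⟨a1, a2⟩
      · exact b (hinj (e.trans a2.symm))
      · exact a (hinj (e.trans a1.symm))
  · refine ⟨fun e => ?_, fun e => ?_, fun e => d (by rw [e, h0])⟩
    · rcases tn_pp h F hx hs with ⟨a1, a2⟩ | ⟨a1, a2⟩
      · exact a (by rw [e, a1])
      · exact b (by rw [e, a1])
    · rcases tn_pp h F hx hs with ⟨a1, a2⟩ | ⟨a1, a2⟩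
      · exact b (by rw [e, a2])
      · exact a (by rw [e, a2])

theorem V_le_tn : V ≤ tn S M μ x := fun _ hv =>
  ⟨h.VS hv, mem_centralizer_singleton_iff.2 (h.Vcomm hv (pr_mem M _ _))⟩

theorem Q_le_tn : o2 P ≤ tn S M μ x := fun y hy => by
  refine ⟨h.QS hy, mem_centralizer_singleton_iff.2 ?_⟩
  have h1 : y ∈ centralizer (V : Set G) := by
    have := h.Q_eq ▸ hy
    exact this.2
  exact (mem_centralizer_iff.1 h1 _ (pr_mem M _ _)).symm

/-- the elements of `T` acting as `(c μ(c))` -/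
theorem exists_swap [Finite G] {c : Pt k m} : ∃ s ∈ tn S M μ x, pp M s = Equiv.swap c (μ c) := by
  have hmem : Equiv.swap c (μ c) ∈ F.FA := by
    intro y
    by_cases h1 : y = c
    · rw [h1, Equiv.swap_apply_left]; exact Or.inr rfl
    by_cases h2 : y = μ c
    · rw [h2, Equiv.swap_apply_right, F.msq]; exact Or.inr rfl
    · rw [Equiv.swap_apply_of_ne_of_ne h1 h2]; exact Or.inl rfl
  obtain ⟨s, hs, e⟩ := Fours.exists_A h F hmem
  refine ⟨s, ⟨hs.1, mem_centralizer_singleton_iff.2 (h.comm_pr (h.SP hs.1) (F.mfst x).symm ?_)⟩, e⟩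
  rw [e]
  by_cases h1 : x = c
  · right
    rw [← h1, Equiv.swap_apply_left, Equiv.swap_apply_right]
    exact ⟨rfl, rfl⟩
  by_cases h2 : x = μ c
  · right
    have h3 : c = μ x := by rw [h2, F.msq]
    rw [← h3, ← h2, Equiv.swap_apply_right, Equiv.swap_apply_left]
    exact ⟨rfl, rfl⟩
  · left
    have h3 : μ x ≠ c := fun e => h2 (by rw [← e, F.msq])
    have h4 : μ x ≠ μ c := fun e => h1 (μ.injective e)
    exact ⟨Equiv.swap_apply_of_ne_of_ne h1 h2, Equiv.swap_apply_of_ne_of_ne h3 h4⟩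

variable (zv : zc (o2 P) ≤ V)
include zv

/-- `C(T)` : involutions centralising `Q` lie in `V` -/
theorem mem_V_of {z : G} (hz : z * z = 1) (hQ : ∀ y ∈ o2 P, y * z = z * y) : z ∈ V :=
  zv (mem_zc.2 ⟨h.cQ (mem_centralizer_iff.2 fun y hy => hQ y hy), fun y hy => hQ y hy, by rw [pow_two]; exact hz⟩)

theorem zc_tn_le : zc (tn S M μ x) ≤ V := fun z hz => by
  have h1 := mem_zc.1 hz
  exact mem_V_of h F hx zv (by rw [← pow_two]; exact h1.2.2) fun y hy => h1.2.1 y (Q_le_tn h F hx hy)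

theorem zc_tn_mu [Finite G] {z : G} (hz : z ∈ zc (tn S M μ x)) (c : Pt k m) : E M z (μ c) = E M z c := by
  obtain ⟨s, hs, e⟩ := exists_swap h F hx (c := c)
  have h1 := (h.comm_iff (h.SP hs.1) (zc_tn_le h F hx zv hz)).1 ((mem_zc.1 hz).2.1 s hs) c
  rwa [e, Equiv.swap_apply_left] at h1

theorem zc_tn_zero [Finite G] {z : G} (hz : z ∈ zc (tn S M μ x)) (i : Fin k) : E M z (i, 0) = 0 := by
  have hzV := zc_tn_le h F hx zv hz
  have h1 : ∑ y, E M z (i, y) = 0 := M.even z hzV i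
  have h2 : ∑ y ∈ Finset.univ.erase (0 : Fin (2 ^ m + 1)), E M z (i, y) = 0 := by
    refine Finset.sum_involution (fun y _ => (μ (i, y)).2) ?_ ?_ ?_ ?_
    · intro y _
      have e : ((i, (μ (i, y)).2) : Pt k m) = μ (i, y) := Prod.ext (F.mfst (i, y)).symm rfl
      rw [e, zc_tn_mu h F hx zv hz]
      exact CharTwo.add_self_eq_zero _
    · intro y hy hne e
      have hy0 : ((i, y) : Pt k m).2 ≠ 0 := (Finset.mem_erase.1 hy).1
      exact F.mne (i, y) hy0 (Prod.ext (F.mfst (i, y)) e)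
    · intro y hy
      have hy0 : ((i, y) : Pt k m).2 ≠ 0 := (Finset.mem_erase.1 hy).1
      exact Finset.mem_erase.2 ⟨fun e => hy0 (F.mnz.1 e), Finset.mem_univ _⟩
    · intro y hy
      have e : ((i, (μ (i, y)).2) : Pt k m) = μ (i, y) := Prod.ext (F.mfst (i, y)).symm rfl
      show (μ (i, (μ (i, y)).2)).2 = y
      rw [e, F.msq]
  rw [← Finset.add_sum_erase _ _ (Finset.mem_univ (0 : Fin (2 ^ m + 1))), h2, add_zero] at h1
  exact h1

/-- `Ω₁Z(T) ≤ ⟨n⟩ C(D3)` -/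
theorem split [Finite G] {f : G} (hf : f ∈ zc (tn S M μ x)) : ∃ u, (u = 1 ∨ u = pr M x (μ x)) ∧
    ∃ z, f = u * z ∧ ∀ g ∈ D3 h x (μ x) (x.1, 0), g * z = z * g := by
  have t := tri F hx
  have hzV := zc_tn_le h F hx zv hf
  have h0 := zc_tn_zero h F hx zv hf x.1
  have h1 := zc_tn_mu h F hx zv hf x
  by_cases hE : E M f x = 0
  · exact ⟨1, Or.inl rfl, f, (one_mul f).symm, fun g hg => D3_comm h hg hzV h1.symm (by rw [hE, h0])⟩
  · have hE1 : E M f x = 1 := by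
      have : ∀ y : ZMod 2, y ≠ 0 → y = 1 := by decide
      exact this _ hE
    have hn := pr_mem M x (μ x)
    have hV := mul_mem hn hzV
    have hadd := E_mul M hn hzV
    refine ⟨pr M x (μ x), Or.inr rfl, pr M x (μ x) * f, ?_, fun g hg => D3_comm h hg hV ?_ ?_⟩
    · rw [← mul_assoc, pr_sq h, one_mul]
    · rw [hadd, hadd, E_pr_left M t.pq t.n1, E_pr_right M t.pq t.n1, h1]
    · rw [hadd, hadd, E_pr_left M t.pq t.n1, E_pr_of_ne M t.pq t.n2.symm t.n3.symm, h0, hE1]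
      decide

omit h F hx zv in
theorem tn_p : IsPGroup 2 (tn S M μ x) := S.isPGroup'.to_le inf_le_left

end tn

/-! ### LEMMA J -/

section lemJ

variable [Finite G] {S : Sylow 2 G} {P V : Subgroup G} {M : SymK (S : Subgroup G) P V ⊥ k m} (h : Sit S P V M)
  {μ ν : Equiv.Perm (Pt k m)} (F : Fours M μ ν) {x : Pt k m} (hx : x.2 ≠ 0)
  (zv : zc (o2 P) ≤ V) (syl : ¬ 2 ∣ (tn S M μ x).relIndex (centralizer ({pr M x (μ x)} : Set G)))
include h F hx zv syl

/-- **LEMMA J** (bb #20002, helper666; Lean: helper125) -/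
theorem lemJ {K : Subgroup G} (hT : tn S M μ x ≤ normalizer (K : Set G))
    (hK : ∀ g ∈ K, g ∈ normalizer (L3 M x (μ x) (x.1, 0) : Set G) →
      g ∈ centralizer (L3 M x (μ x) (x.1, 0) : Set G)) :
    ¬ 2 ∣ (tn S M μ x).relIndex (tn S M μ x ⊔ K) := by
  have t := tri F hx
  intro hdvd
  obtain ⟨R, hTR, hRle, hR, hRodd⟩ := HT.exists_syl (S := tn S M μ x) (P := tn S M μ x ⊔ K) tn_p le_sup_left
  have hlt : tn S M μ x < R := by
    refine lt_of_le_of_ne hTR fun e => hRodd ?_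
    rw [← e]; exact hdvd
  obtain ⟨g, hgR, hgN, hgT, hg2⟩ := MinSimple.Choice97.exists_normalizing hR hlt
  obtain ⟨s, hs, b, hb, rfl⟩ := mem_sup_norm hT (hRle hgR)
  -- `b` normalises `T`
  have hbN : b ∈ normalizer (tn S M μ x : Set G) := by
    have h1 := mul_mem (inv_mem (le_normalizer hs)) hgN
    rwa [inv_mul_cancel_left] at h1
  have hbT : b ∉ tn S M μ x := fun e => hgT (mul_mem hs e)
  have hbR : b ∈ R := by
    have h1 := mul_mem (inv_mem (hTR hs)) hgR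
    rwa [inv_mul_cancel_left] at h1
  have hTb : ∀ c ∈ tn S M μ x, b * c * b⁻¹ ∈ tn S M μ x := fun c hc => (mem_normalizer_iff.1 hbN c).1 hc
  have hTb' : ∀ c ∈ tn S M μ x, b⁻¹ * c * b ∈ tn S M μ x := fun c hc => by
    have := (mem_normalizer_iff.1 (inv_mem hbN) c).1 hc
    rwa [inv_inv] at this
  have hKs : ∀ c ∈ tn S M μ x, ∀ y ∈ K, c * y * c⁻¹ ∈ K := fun c hc y hy => (mem_normalizer_iff.1 (hT hc) y).1 hy
  -- `[b, c] ∈ K ∩ T`
  have hcomm : ∀ c ∈ tn S M μ x, c⁻¹ * b * c * b⁻¹ ∈ K ⊓ tn S M μ x := fun c hc => by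
    refine mem_inf.2 ⟨?_, ?_⟩
    · have h1 := hKs c⁻¹ (inv_mem hc) b hb
      rw [inv_inv] at h1
      exact mul_mem h1 (inv_mem hb)
    · have h1 := mul_mem (inv_mem hc) (hTb c hc)
      have e : c⁻¹ * (b * c * b⁻¹) = c⁻¹ * b * c * b⁻¹ := by group
      rwa [e] at h1
  -- the elements of `V` commuting with `K ∩ T`
  have hW : ∀ v ∈ V, (∀ c ∈ K ⊓ tn S M μ x, c * v = v * c) →
      b * v * b⁻¹ ∈ V ∧ ∀ c ∈ K ⊓ tn S M μ x, c * (b * v * b⁻¹) = b * v * b⁻¹ * c := by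
    intro v hv hc
    have hb1 : ∀ c ∈ K ⊓ tn S M μ x, b⁻¹ * c * b ∈ K ⊓ tn S M μ x := fun c hc =>
      mem_inf.2 ⟨mul_mem (mul_mem (inv_mem hb) hc.1) hb, hTb' c hc.2⟩
    have hcom : ∀ c ∈ K ⊓ tn S M μ x, c * (b * v * b⁻¹) = b * v * b⁻¹ * c := by
      intro c hc1
      have h1 := hc _ (hb1 c hc1)
      calc c * (b * v * b⁻¹) = b * (b⁻¹ * c * b * v) * b⁻¹ := by group
        _ = b * (v * (b⁻¹ * c * b)) * b⁻¹ := by rw [h1]
        _ = b * v * b⁻¹ * c := by group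
    refine ⟨mem_V_of h F hx zv ?_ ?_, hcom⟩
    · have hvv := h.Vsq hv
      calc b * v * b⁻¹ * (b * v * b⁻¹) = b * (v * v) * b⁻¹ := by group
        _ = 1 := by rw [hvv]; group
    · intro y hy
      have hyT := Q_le_tn h F hx hy
      have hyv : y * v = v * y := by
        have h1 : y ∈ centralizer (V : Set G) := by
          have := h.Q_eq ▸ hy
          exact this.2
        exact (mem_centralizer_iff.1 h1 v hv).symm
      have h1 : b⁻¹ * (y⁻¹ * b * y * b⁻¹) * b ∈ K ⊓ tn S M μ x := hb1 _ (hcomm y hyT)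
      have h2 := hc _ h1
      have e1 : b⁻¹ * y * b = y * (b⁻¹ * (y⁻¹ * b * y * b⁻¹) * b)⁻¹ := by group
      have h3 : (b⁻¹ * (y⁻¹ * b * y * b⁻¹) * b)⁻¹ * v = v * (b⁻¹ * (y⁻¹ * b * y * b⁻¹) * b)⁻¹ :=
        ((show Commute _ v from h2).inv_left).eq
      have h4 : b⁻¹ * y * b * v = v * (b⁻¹ * y * b) := by
        rw [e1, mul_assoc, h3, ← mul_assoc, hyv, mul_assoc]
      calc y * (b * v * b⁻¹) = b * (b⁻¹ * y * b * v) * b⁻¹ := by group
        _ = b * (v * (b⁻¹ * y * b)) * b⁻¹ := by rw [h4]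
        _ = b * v * b⁻¹ * y := by group
  -- the points of the line
  have hT1 : ∀ v ∈ L3 M x (μ x) (x.1, 0), ∀ c ∈ K ⊓ tn S M μ x, c * v = v * c := fun v hv c hc =>
    (mem_centralizer_iff.1 (hK c hc.1 (tn_norm h F hx hc.2)) v hv).symm
  have hAl : pr M x (μ x) ∈ L3 M x (μ x) (x.1, 0) := ⟨pr_mem M _ _, fun s h1 h2 _ => E_pr_of_ne M t.pq h1 h2⟩
  have hBl : pr M x (x.1, 0) ∈ L3 M x (μ x) (x.1, 0) := ⟨pr_mem M _ _, fun s h1 _ h3 => E_pr_of_ne M t.pr h1 h3⟩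
  obtain ⟨hA', -⟩ := hW _ (pr_mem M _ _) (hT1 _ hAl)
  obtain ⟨hB', hB''⟩ := hW _ (pr_mem M _ _) (hT1 _ hBl)
  obtain ⟨A, hA⟩ : ∃ A, A = pr M x (μ x) := ⟨_, rfl⟩
  obtain ⟨B, hB⟩ : ∃ B, B = pr M x (x.1, 0) := ⟨_, rfl⟩
  rw [← hA] at hA'
  rw [← hB] at hB' hB''
  -- the transposition
  obtain ⟨τ, hτ, hτp⟩ := exists_swap h F hx (c := x)
  have hτP := h.SP hτ.1
  have hEB : E M B x ≠ E M B (μ x) := by
    rw [hB, E_pr_left M t.pr t.n2, E_pr_of_ne M t.pr t.n1.symm t.n3]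
    exact one_ne_zero
  have hBV : B ∈ V := by rw [hB]; exact pr_mem M _ _
  have k1 : τ * B * τ⁻¹ = B * A := by
    rw [conj_swap h hτP t.pq hτp hBV hEB, hA]
  -- `b τ b⁻¹ = τ c`
  obtain ⟨c, hc⟩ : ∃ c, c = τ⁻¹ * b * τ * b⁻¹ := ⟨_, rfl⟩
  have hcK : c ∈ K ⊓ tn S M μ x := by rw [hc]; exact hcomm τ hτ
  have k2 : τ * (b * B * b⁻¹) * τ⁻¹ = b * B * b⁻¹ * (b * A * b⁻¹) := by
    have k3 := hB'' c hcK
    calc τ * (b * B * b⁻¹) * τ⁻¹ = τ * (b * B * b⁻¹ * c) * c⁻¹ * τ⁻¹ := by group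
      _ = τ * (c * (b * B * b⁻¹)) * c⁻¹ * τ⁻¹ := by rw [k3]
      _ = b * (τ * B * τ⁻¹) * b⁻¹ := by rw [hc]; group
      _ = b * B * b⁻¹ * (b * A * b⁻¹) := by rw [k1]; group
  have hA1 : A ≠ 1 := by rw [hA]; exact pr_ne h t.pq t.n1
  have hbA1 : b * A * b⁻¹ ≠ 1 := fun e => hA1 (conj_eq_one_iff.1 e)
  have k4 : b * A * b⁻¹ = A := by
    by_cases hE : E M (b * B * b⁻¹) x = E M (b * B * b⁻¹) (μ x)
    · exfalso
      have h1 := comm_swap h hτP hτp hB' hE
      rw [h1, mul_inv_cancel_right] at k2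
      exact hbA1 (mul_left_cancel (k2.symm.trans (mul_one _).symm))
    · have h1 := conj_swap h hτP t.pq hτp hB' hE
      rw [h1, ← hA] at k2
      exact (mul_left_cancel k2).symm
  -- `T ⟨b⟩ ≤ C(n)`
  have hbC : b ∈ centralizer ({pr M x (μ x)} : Set G) := by
    rw [← hA, mem_centralizer_singleton_iff]
    exact mul_inv_eq_iff_eq_mul.1 k4
  have hle : tn S M μ x ⊔ zpowers b ≤ centralizer ({pr M x (μ x)} : Set G) :=
    sup_le inf_le_right (by rw [zpowers_le]; exact hbC)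
  have hp : IsPGroup 2 (tn S M μ x ⊔ zpowers b : Subgroup G) :=
    hR.to_le (sup_le hTR (by rw [zpowers_le]; exact hbR))
  have h1 := HT.card_dvd_card (inf_le_right : tn S M μ x ≤ _) syl hp hle
  have h2 : tn S M μ x = tn S M μ x ⊔ zpowers b := eq_of_le_of_card_ge le_sup_left (Nat.le_of_dvd Nat.card_pos h1)
  exact hbT (h2.symm.le (mem_sup_right (mem_zpowers b)))

end lemJ

/-! ### `loc` from LEMMA J -/

section loc

variable [Finite G] {F : Type*} [Field F] {L N : Subgroup G} {M : RMod F L N} {T D : Subgroup G}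

/-- a 2-group normalised by `D` which normalises `L` centralises `L` -/
theorem cent_of_lift (hL2 : IsPGroup 2 L) (hL1 : L ≠ ⊥) (hDN : D ≤ normalizer (L : Set G))
    (lift : ∀ A : Matrix.SpecialLinearGroup (Fin 2) F, ∃ g ∈ D, M.Ind g A) {K : Subgroup G} (hK : IsPGroup 2 K)
    (hD : D ≤ normalizer (K : Set G)) {g : G} (hg : g ∈ K) (hgN : g ∈ normalizer (L : Set G)) :
    g ∈ centralizer (L : Set G) := by
  have hK' : IsPGroup 2 (K ⊓ normalizer (L : Set G) : Subgroup G) := hK.to_le inf_le_left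
  obtain ⟨x, hx, hx1, hfix⟩ := Half.exists_fixed hL2 hL1 hK' inf_le_right
  obtain ⟨u, rfl⟩ := (M.mem_iff x).1 hx
  have hu : u ≠ 0 := fun e => hx1 (by rw [e]; exact M.e_zero)
  rw [mem_centralizer_iff]
  intro y hy
  obtain ⟨w, rfl⟩ := (M.mem_iff y).1 hy
  by_cases hw : w = 0
  · rw [hw, M.e_zero, one_mul, mul_one]
  obtain ⟨A, hA⟩ := NatPair.exists_ap hu hw
  obtain ⟨d, hd, hdA⟩ := lift A
  have h1 : d⁻¹ * g * d ∈ K ⊓ normalizer (L : Set G) := by
    refine mem_inf.2 ⟨?_, mul_mem (mul_mem (inv_mem (hDN hd)) hgN) (hDN hd)⟩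
    have := (mem_normalizer_iff.1 (inv_mem (hD hd)) g).1 hg
    rwa [inv_inv] at this
  have h2 := hfix _ h1
  have h3 : d * M.e u * d⁻¹ = M.e w := by
    have h4 := hdA u
    rw [hA] at h4
    exact h4
  rw [← h3]
  calc d * M.e u * d⁻¹ * g = d * M.e u * (d⁻¹ * g * d) * d⁻¹ := by group
    _ = d * (d⁻¹ * g * d * M.e u * (d⁻¹ * g * d)⁻¹) * (d⁻¹ * g * d) * d⁻¹ := by rw [h2]
    _ = g * (d * M.e u * d⁻¹) := by group

theorem loc_of (hL2 : IsPGroup 2 L) (hL1 : L ≠ ⊥) (hT2 : IsPGroup 2 T) (hTN : T ≤ normalizer (L : Set G))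
    (hDN : D ≤ normalizer (L : Set G))
    (lift : ∀ A : Matrix.SpecialLinearGroup (Fin 2) F, ∃ g ∈ D, M.Ind g A)
    (J : ∀ K : Subgroup G, T ≤ normalizer (K : Set G) → (∀ g ∈ K, g ∈ normalizer (L : Set G) →
      g ∈ centralizer (L : Set G)) → ¬ 2 ∣ T.relIndex (T ⊔ K)) {H : Subgroup G} (hT : T ≤ H) (hD : D ≤ H) :
    BTwo.O2 H ≤ centralizer (L : Set G) := by
  have hO2 : IsPGroup 2 (BTwo.O2 H) := o2_isPGroup H
  have hn : H ≤ normalizer (BTwo.O2 H : Set G) := le_normalizer_o2 H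
  have hc : ∀ g ∈ BTwo.O2 H, g ∈ normalizer (L : Set G) → g ∈ centralizer (L : Set G) := fun g hg hgN =>
    cent_of_lift hL2 hL1 hDN lift hO2 (hD.trans hn) hg hgN
  have h1 := J _ (hT.trans hn) hc
  have h2 : IsPGroup 2 (T ⊔ BTwo.O2 H : Subgroup G) := hT2.to_sup_of_normal_right' hO2 (hT.trans hn)
  have h3 := HT.card_dvd_card (le_sup_left : T ≤ T ⊔ BTwo.O2 H) h1 h2 le_rfl
  have h4 : T = T ⊔ BTwo.O2 H := eq_of_le_of_card_ge le_sup_left (Nat.le_of_dvd Nat.card_pos h3)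
  intro g hg
  exact hc g hg (hTN (h4.symm.le (mem_sup_right hg)))

end loc

/-! ### The side -/

section side

variable [Finite G] {S : Sylow 2 G} {P V : Subgroup G} {M : SymK (S : Subgroup G) P V ⊥ k m} (h : Sit S P V M)
  {μ ν : Equiv.Perm (Pt k m)} (F : Fours M μ ν) {x : Pt k m} (hx : x.2 ≠ 0)
  (zv : zc (o2 P) ≤ V) (syl : ¬ 2 ∣ (tn S M μ x).relIndex (centralizer ({pr M x (μ x)} : Set G)))
include h F hx zv syl

/-- **The side.** -/
theorem side : Side (ml3 h (tri F hx)) (pr M x (μ x)) (tn S M μ x) (D3 h x (μ x) (x.1, 0)) := by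
  have t := tri F hx
  have lift : ∀ A : Matrix.SpecialLinearGroup (Fin 2) (ZMod 2), ∃ g ∈ D3 h x (μ x) (x.1, 0),
      (ml3 h (tri F hx)).Ind g A := fun A => exists_lift3 h (tri F hx) A
  have hAl : pr M x (μ x) ∈ L3 M x (μ x) (x.1, 0) := ⟨pr_mem M _ _, fun s h1 h2 _ => E_pr_of_ne M t.pq h1 h2⟩
  refine ⟨by simp, ⟨![1, 0], ?_, fun g => mem_line3 h _⟩, pr_ne h t.pq t.n1, tn_p, tn_norm h F hx, inf_le_right,
    syl, L3_le.trans (V_le_tn h F hx), D3_norm h, lift, fun f hf => split h F hx zv hf, fun H hT hD => ?_⟩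
  · intro e
    have := congrFun e 0
    exact one_ne_zero this
  · refine loc_of (M := ml3 h (tri F hx)) ?_ ?_ tn_p (tn_norm h F hx) (D3_norm h) lift
      (fun K h1 h2 => lemJ h F hx zv syl h1 h2) hT hD
    · intro v
      exact ⟨1, by
        ext
        show (v : G) ^ 2 ^ 1 = 1
        rw [pow_one, pow_two]
        exact h.Vsq (L3_le v.2)⟩
    · intro e
      rw [e, mem_bot] at hAl
      exact pr_ne h t.pq t.n1 hAl

/-- `|Ω₁Z(T) ∩ C(D3)| ≥ 4` for `k ≥ 2` -/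
theorem exists_pair (hk : 2 ≤ k) : ∃ a d : G,
    (a ∈ zc (tn S M μ x) ∧ ∀ g ∈ D3 h x (μ x) (x.1, 0), g * a = a * g) ∧
    (d ∈ zc (tn S M μ x) ∧ ∀ g ∈ D3 h x (μ x) (x.1, 0), g * d = d * g) ∧ a ≠ 1 ∧ d ≠ 1 ∧ a * d ≠ 1 := by
  classical
  have t := tri F hx
  have zcT : ∀ v ∈ V, (∀ s ∈ tn S M μ x, s * v = v * s) → v ∈ zc (tn S M μ x) := fun v hv hs =>
    mem_zc.2 ⟨V_le_tn h F hx hv, hs, by rw [pow_two]; exact h.Vsq hv⟩
  -- the second element
  obtain ⟨d, hd, hdE⟩ := M.surj (fun i y => if i = x.1 then 0 else if y = 0 then 0 else 1) (by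
    intro i
    by_cases hi : i = x.1
    · simp [hi]
    · have h1 : ∀ y : Fin (2 ^ m + 1), (if i = x.1 then (0 : ZMod 2) else if y = 0 then 0 else 1) =
          1 + (if y = 0 then 1 else 0) := by
        intro y
        rw [if_neg hi]
        by_cases hy : y = 0
        · rw [if_pos hy, if_pos hy]; decide
        · rw [if_neg hy, if_neg hy, add_zero]
      rw [Finset.sum_congr rfl fun y _ => h1 y, Finset.sum_add_distrib, Finset.sum_const, Finset.card_univ,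
        Fintype.card_fin, Finset.sum_ite_eq' Finset.univ (0 : Fin (2 ^ m + 1)), if_pos (Finset.mem_univ _),
        nsmul_eq_mul, mul_one, Nat.cast_add, Nat.cast_one]
      have h6 : ((2 ^ m : ℕ) : ZMod 2) = 0 := by
        rw [ZMod.natCast_eq_zero_iff]
        exact dvd_pow_self 2 (by have := h.hm1; omega)
      rw [h6]
      decide)
  have hE : ∀ s : Pt k m, E M d s = if s.1 = x.1 then 0 else if s.2 = 0 then 0 else 1 := fun s => by
    show M.e d s.1 s.2 = _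
    rw [hdE]
  obtain ⟨j, hj⟩ : ∃ j : Fin k, j ≠ x.1 := by
    have : Nontrivial (Fin k) := Fin.nontrivial_iff_two_le.2 hk
    exact exists_ne _
  obtain ⟨y, hy⟩ : ∃ c : Fin (2 ^ m + 1), c ≠ 0 := by
    obtain ⟨c, hc, -⟩ := Half.SymA.exists_third h.hm1 0 0
    exact ⟨c, hc⟩
  have hEj : E M d (j, y) = 1 := by rw [hE, if_neg hj, if_neg hy]
  -- the first element: the sibling
  have hn : (ν x).2 ≠ 0 := fun e => hx (F.nnz.1 e)
  have e1 : (ν x).1 = (μ (ν x)).1 := (F.mfst _).symm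
  have ea1 : E M (pr M (ν x) (μ (ν x))) x = 0 := by
    refine E_pr_of_ne M e1 (fun e => F.nne x hx e.symm) (fun e => F.nmu x hx ?_)
    have := congrArg μ e
    rw [F.msq] at this
    exact this.symm
  have ea2 : E M (pr M (ν x) (μ (ν x))) (μ x) = 0 :=
    E_pr_of_ne M e1 (fun e => F.nmu x hx e.symm) (fun e => F.nne x hx (μ.injective e).symm)
  have ea3 : E M (pr M (ν x) (μ (ν x))) (x.1, 0) = 0 :=
    E_pr_of_ne M e1 (fun e => hn (by rw [← e])) (fun e => hn (by rw [← F.mnz, ← e]))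
  have ea4 : E M (pr M (ν x) (μ (ν x))) (j, y) = 0 := by
    have h1 : (ν x).1 = x.1 := F.nfst x
    refine E_pr_of_ne M e1 (fun e => hj ?_) (fun e => hj ?_)
    · rw [← h1, ← e]
    · rw [← h1, e1, ← e]
  refine ⟨pr M (ν x) (μ (ν x)), d, ⟨zcT _ (pr_mem M _ _) fun s hs => ?_, fun g hg =>
    D3_comm h hg (pr_mem M _ _) (by rw [ea1, ea2]) (by rw [ea1, ea3])⟩, ⟨zcT d hd fun s hs => ?_, fun g hg =>
    D3_comm h hg hd ?_ ?_⟩, pr_ne h e1 (F.mne _ hn).symm, fun e => ?_, fun e => ?_⟩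
  · -- `C_S(12) ≤ C(34)`
    refine h.comm_pr (h.SP hs.1) e1 ?_
    have h3 := F.meqv s hs.1 (ν x)
    rcases F.neqv s hs.1 x with h2 | h2 <;> rcases tn_pp h F hx hs with ⟨a1, -⟩ | ⟨a1, -⟩ <;> rw [a1] at h2
    · left; rw [h2] at h3; exact ⟨h2, h3⟩
    · right; rw [← F.comm] at h2; rw [h2, F.msq] at h3; exact ⟨h2, h3⟩
    · right; rw [h2, F.msq] at h3; exact ⟨h2, h3⟩
    · left; rw [← F.comm, F.msq] at h2; rw [h2] at h3; exact ⟨h2, h3⟩
  · rw [h.comm_iff (h.SP hs.1) hd]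
    intro c
    have h0 : (pp M s x).1 = x.1 := by
      rcases tn_pp h F hx hs with e | e
      · rw [e.1]
      · rw [e.1, F.mfst]
    have h4 : (pp M s c).1 = x.1 ↔ c.1 = x.1 := by
      rw [← h0]
      rw [pp_fst_iff h.amb h.hm1 (h.SP hs.1)]
      rw [h0]
    have h5 := h.snd (p := c) hs.1
    rw [hE, hE]
    simp only [h4, h5]
  · rw [hE, hE, if_pos rfl, if_pos (F.mfst x)]
  · rw [hE, hE, if_pos rfl, if_pos rfl]
  · rw [e, E_one] at hEj
    exact zero_ne_one hEj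
  · have h1 : E M (pr M (ν x) (μ (ν x)) * d) (j, y) = 1 := by
      rw [E_mul M (pr_mem M _ _) hd, ea4, hEj, zero_add]
    rw [e, E_one] at h1
    exact zero_ne_one h1

end side

end Cfsg.Agent.Omega.IId.SwB.SymS

end

-- merged: Cfsg.Agent.Mrg.Omega.IId.SymWr.SylN.OfFr
section

/-!
# II.d, `SwBig`, T-T: THEOREM SYL_n for the frame `Ht.Fr`

* `SN.of_fr` : the hypotheses `SN` of THEOREM SYL_n from the frame;
* `Ht.Fr.zv` : **(ZV)** : `Ω₁Z(O₂(P)) = V`;
* `Ht.Fr.lem2`, `Ht.Fr.lem3`, `Ht.Fr.perm_t` : LEMMA 2, LEMMA 3;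
* `Ht.Fr.syl` : **THEOREM SYL_n**.
-/

set_option autoImplicit false

namespace Cfsg.Agent.Omega.IId.SymWr

open Subgroup Cfsg Cfsg.Agent.Omega.FFThm
open Cfsg.Agent.ZN (o2 zc)
open Cfsg.Agent.Omega.Half.SymA (Pt E Mv pm)
open Cfsg.Agent.MinSimple.VModule (mem_zc)

universe u

variable {G : Type u} [Group G] {P V : Subgroup G} {k m : ℕ}

/-- `SN` from 916's frame -/
theorem SN.of_fr [Finite G] {S : Sylow 2 G} {M : SymK (S : Subgroup G) P V ⊥ k m} (h : Ht.Fr S P V M) :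
    SN S P V M where
  toSit := h.toSit
  c2 := h.char2
  zV := h.amb.zc
  QP _ _ hpq hne := h.Qle hpq hne
  Qpp _ _ hpq hne _ hx := h.Qpp hpq hne hx
  VQ _ _ hpq hne := h.V_le hpq hne
  par _ _ hpq hne := by
    obtain ⟨w, hw, -, hwp⟩ := h.exists_w hpq hne
    exact ⟨w, hw, hwp⟩

namespace Ht.Fr

variable [Finite G] {S : Sylow 2 G} {M : SymK (S : Subgroup G) P V ⊥ k m} (h : Ht.Fr S P V M)
include h

/-- **(ZV)** -/
theorem mem_V {z : G} (hzz : z * z = 1) (hz : ∀ x ∈ o2 P, x * z = z * x) : z ∈ V := (SN.of_fr h).zv hzz hz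

/-- **(ZV)** -/
theorem zv : zc (o2 P) = V :=
  le_antisymm (fun z hz => h.mem_V (by rw [← pow_two]; exact (mem_zc.1 hz).2.2) (mem_zc.1 hz).2.1) h.VZ

variable {μ ν : Equiv.Perm (Pt k m)} (F : Fours M μ ν) {x₀ : Pt k m} (hx : x₀.2 ≠ 0)
include F hx

/-- **THEOREM SYL_n** -/
theorem syl : ¬ 2 ∣ ((S : Subgroup G) ⊓ centralizer ({pr M x₀ (μ x₀)} : Set G)).relIndex
    (centralizer ({pr M x₀ (μ x₀)} : Set G)) := (SN.of_fr h).sylT F hx

/-- **THEOREM SYL_n**, the maximal form -/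
theorem syl_max {R : Subgroup G} (hR : IsPGroup 2 R) (hRc : R ≤ centralizer ({pr M x₀ (μ x₀)} : Set G))
    (hTR : (S : Subgroup G) ⊓ centralizer ({pr M x₀ (μ x₀)} : Set G) ≤ R) :
    R ≤ (S : Subgroup G) ⊓ centralizer ({pr M x₀ (μ x₀)} : Set G) := (SN.of_fr h).sylT_max F hx hR hRc hTR

variable {t : G} (ht : t ∈ centralizer ({pr M x₀ (μ x₀)} : Set G))
  (htn : t ∈ normalizer (((S : Subgroup G) ⊓ centralizer ({pr M x₀ (μ x₀)} : Set G) : Subgroup G) : Set G))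

include ht htn

/-- **LEMMA 2** -/
theorem lem2 {v : G} (hv : v ∈ V) (hE : E M v x₀ = E M v (μ x₀)) :
    t * v * t⁻¹ ∈ V ∧ E M (t * v * t⁻¹) x₀ = E M (t * v * t⁻¹) (μ x₀) := (SN.of_fr h).lem2 F hx ht htn hv hE

/-- **LEMMA 3** -/
theorem lem3 : t ∈ normalizer (V : Set G) := (SN.of_fr h).lem3_norm F hx ht htn

/-- `t` permutes the `S`-duads different from `n` -/
theorem perm_t {p : Pt k m} (hp : p.2 ≠ 0) (hp1 : p ≠ x₀) (hp2 : p ≠ μ x₀) :
    ∃ c : Pt k m, c.2 ≠ 0 ∧ c ≠ x₀ ∧ c ≠ μ x₀ ∧ t * pr M p (μ p) * t⁻¹ = pr M c (μ c) :=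
  (SN.of_fr h).perm_t F hx ht htn hp hp1 hp2

end Ht.Fr

end Cfsg.Agent.Omega.IId.SymWr

end

-- merged: Cfsg.Agent.Mrg.Omega.IId.SymWr.Ht.End
section

/-!
# II.d, `SwBig`, T-T: the end (bb OMEGA #19862, #20414; `HT.Main.false_of_y` over `T = C_S(n)`)

`n = pr M x (μ x)`, `V_l = {1, 12, 10, 20}`, `Z₀ = Ω₁Z(T) ⊓ C(X)`, `σ = sg`, `z* = σ n`.
* `Fr.Z0_zero` : the elements of `Z₀` vanish on the line; `Fr.comm_sg`, `Fr.zst_mem` : `z* ∈ Z₀`;
* `Fr.sig_eq` : `Sig c ⟹ c = z*`; `Fr.yv` : `V` centralises `⟨n^{C(σ)}⟩`;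
* `Fr.false_of_le` : **no T-T partner**, from LEMMA E (`2 ≤ k` or `3 ≤ m`).
-/

set_option autoImplicit false
set_option linter.unusedSectionVars false

namespace Cfsg.Agent.Omega.IId.SymWr.Ht

open Subgroup Cfsg Cfsg.Agent.Omega.MinPar Cfsg.Agent.Omega.FFThm
open Cfsg.Agent.ZN (o2 zc)
open Cfsg.Agent.Omega.Half (Amb amb_of_loc)
open Cfsg.Agent.Omega.Half.SymA (Pt E Mv pm)
open Cfsg.Agent.Omega.HT.LineOf (Ln ln pts dd)
open Cfsg.Agent.Omega.BTwo (BT XX WW QQ O2)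
open Cfsg.Agent.Omega.HTwo.Hat (ZQ)
open Cfsg.Agent.MinSimple.VModule (le_normalizer_o2 o2_isPGroup o2_le mem_zc zc_le)

universe u

variable {G : Type u} [Group G] [Finite G] {k m : ℕ}

namespace Fr

variable {S : Sylow 2 G} {P V : Subgroup G} {M : SymK (S : Subgroup G) P V ⊥ k m} (h : Fr S P V M)
  {μ ν : Equiv.Perm (Pt k m)} (F : Fours M μ ν) {x : Pt k m} (hx : x.2 ≠ 0)
include h F hx

/-- `T` fixes the summand of `x` -/
theorem tn_fst {s : G} (hs : s ∈ tn S M μ x) (p : Pt k m) : (pp M s p).1 = x.1 ↔ p.1 = x.1 := by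
  have h1 : (pp M s x).1 = x.1 := by
    rcases h.tn_pp F hx hs with e | e
    · rw [e.1]
    · rw [e.1, F.mfst]
  have h2 := pp_fst_iff h.amb h.hm1 (M := M) (h.SP hs.1) (p := p) (q := x)
  rwa [h1] at h2

/-- `T` centralises `σ` -/
theorem comm_sg {s : G} (hs : s ∈ tn S M μ x) : s * (sg h.toSit x.1).val = (sg h.toSit x.1).val * s := by
  rw [h.comm_iff (h.SP hs.1) (sg_mem h.toSit x.1)]
  intro p
  rw [E_sg, E_sg]
  simp only [h.tn_fst F hx hs p, h.snd hs.1]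

/-- `X` contains an element acting as `(x 0)` -/
theorem exists_X : ∃ w ∈ h.X3 (h.tri F hx), pp M w = Equiv.swap x (x.1, 0) := by
  have t := h.tri F hx
  obtain ⟨s, hs, h1⟩ := h.exists_h t.pr t.n2
  have hE : E M (pr M x (μ x)) x ≠ E M (pr M x (μ x)) (x.1, 0) := by
    rw [E_pr_left M t.pq t.n1, E_pr_of_ne M t.pq t.n2.symm t.n3.symm]
    exact one_ne_zero
  obtain ⟨⟨-, h3⟩, -⟩ := h1 _ (pr_mem M x (μ x)) hE
  refine ⟨_, ?_, h3⟩
  have hsN : s ∈ normalizer (pts (pr M x (μ x)) (pr M x (x.1, 0)) 1 : Set G) := by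
    rw [(h.line3 t).normalizer_pts 1]
    exact hs
  have h4 := BTwo.cj_le_WW (V := ln (h.line3 t)) hsN
  have h5 : s * pr M x (μ x) * s⁻¹ ∈ WW (ln (h.line3 t)) (pts (pr M x (μ x)) (pr M x (x.1, 0)) 1) := by
    apply h4
    rw [BTwo.mem_cj]
    have e : s⁻¹ * (s * pr M x (μ x) * s⁻¹) * s = pr M x (μ x) := by group
    rw [e]
    exact (h.line3 t).dd_mem 0
  exact (le_iSup (fun i => WW (ln (h.line3 t)) (pts (pr M x (μ x)) (pr M x (x.1, 0)) i)) 1) h5

variable (zv : zc (o2 P) ≤ V)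
include zv

/-- the elements of `Z₀` vanish on the line -/
theorem Z0_zero {c : G} (hc : c ∈ zc (tn S M μ x) ⊓
    centralizer ((tn S M μ x ⊔ h.X3 (h.tri F hx) : Subgroup G) : Set G)) :
    E M c x = 0 ∧ E M c (μ x) = 0 ∧ ∀ i, E M c (i, 0) = 0 := by
  have h0 := h.zc_tn_zero F hx zv hc.1
  have hcV := h.zc_tn_le F hx zv hc.1
  obtain ⟨w, hw, hwp⟩ := h.exists_X F hx
  have h1 : w * c = c * w := mem_centralizer_iff.1 hc.2 w (mem_sup_right hw)
  have h2 := (h.comm_iff (h.X_le_P (h.tri F hx) hw) hcV).1 h1 (x.1, 0)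
  rw [hwp, Equiv.swap_apply_right, h0] at h2
  exact ⟨h2, by rw [h.zc_tn_mu F hx zv hc.1, h2], h0⟩

omit zv in
/-- `z* ∈ Z₀` -/
theorem zst_mem : (sg h.toSit x.1).val * pr M x (μ x) ∈ zc (tn S M μ x) ⊓
    centralizer ((tn S M μ x ⊔ h.X3 (h.tri F hx) : Subgroup G) : Set G) := by
  have t := h.tri F hx
  have hσ := sg_mem h.toSit x.1
  have hn := pr_mem M x (μ x)
  refine h.mem_Z0 F hx (mul_mem hσ hn) (fun s hs => ?_) ?_ ?_ ?_
  · have h1 := h.comm_sg F hx hs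
    have h2 := mem_centralizer_singleton_iff.1 hs.2
    rw [← mul_assoc, h1, mul_assoc, h2, mul_assoc]
  · rw [Half.SymA.E_mul M hσ hn, E_sg, E_pr_left M t.pq t.n1, if_pos rfl, if_neg hx]
    decide
  · rw [Half.SymA.E_mul M hσ hn, E_sg, E_pr_right M t.pq t.n1, if_pos (F.mfst x), if_neg fun e => hx (F.mnz.1 e)]
    decide
  · rw [Half.SymA.E_mul M hσ hn, E_sg, E_pr_of_ne M t.pq t.n2.symm t.n3.symm, if_pos rfl, if_pos rfl, add_zero]

omit zv in
/-- the values of `z*` -/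
theorem E_zst (p : Pt k m) : E M ((sg h.toSit x.1).val * pr M x (μ x)) p =
    (if p.1 = x.1 then (if p.2 = 0 then 0 else 1) else 0) + ((if p = x then 1 else 0) + (if p = μ x then 1 else 0)) := by
  classical
  rw [Half.SymA.E_mul M (sg_mem h.toSit x.1) (pr_mem M x (μ x)), E_sg]
  congr 1
  have h1 := E_pr M (p := x) (q := μ x) (h.tri F hx).pq p
  convert h1

/-- **`Sig c` implies `c = z*`** -/
theorem sig_eq {c : G} (hc : c ∈ zc (tn S M μ x) ⊓
    centralizer ((tn S M μ x ⊔ h.X3 (h.tri F hx) : Subgroup G) : Set G))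
    (hs : HT.Sig (ln (h.line3 (h.tri F hx))) (pts (pr M x (μ x)) (pr M x (x.1, 0))) 0 c) :
    c = (sg h.toSit x.1).val * pr M x (μ x) := by
  classical
  have t := h.tri F hx
  have hcV := h.zc_tn_le F hx zv hc.1
  obtain ⟨c1, c2, c3⟩ := h.Z0_zero F hx zv hc
  have hv := pr_mem M x (x.1, 0)
  have hyV := mul_mem hv hcV
  -- constant outside `{x, μ x}`
  have key : ∀ a b : Pt k m, a.1 = b.1 → a ≠ x → a ≠ μ x → b ≠ x → b ≠ μ x →
      E M (pr M x (x.1, 0) * c) a = E M (pr M x (x.1, 0) * c) b := by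
    intro a b hab ha1 ha2 hb1 hb2
    obtain ⟨g, hg, hgp⟩ := h.exists_pp (π := Equiv.swap a b) (by
      intro r
      rcases eq_or_ne r a with rfl | h1
      · rw [Equiv.swap_apply_left, hab]
      · rcases eq_or_ne r b with rfl | h2
        · rw [Equiv.swap_apply_right, hab]
        · rw [Equiv.swap_apply_of_ne_of_ne h1 h2])
    have g1 : pp M g x = x := by rw [hgp, Equiv.swap_apply_of_ne_of_ne (Ne.symm ha1) (Ne.symm hb1)]
    have g2 : pp M g (μ x) = μ x := by rw [hgp, Equiv.swap_apply_of_ne_of_ne (Ne.symm ha2) (Ne.symm hb2)]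
    have hgr : g * pr M x (μ x) = pr M x (μ x) * g := h.comm_pr hg t.pq (Or.inl ⟨g1, g2⟩)
    have hgN : g ∈ normalizer (pts (pr M x (μ x)) (pr M x (x.1, 0)) 0 : Set G) := by
      rw [(h.line3 t).normalizer_pts 0]
      exact mem_centralizer_singleton_iff.2 hgr
    have hcond : ∀ v ∈ ln (h.line3 t), g * v * g⁻¹ ∈ ln (h.line3 t) ⊔
        ZQ (pts (pr M x (μ x)) (pr M x (x.1, 0))) 0 := by
      intro v hvl
      have hvV := h.ln_le t hvl
      have hgv := h.amb.conj_mem hg hvV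
      have e : g * v * g⁻¹ = v * (v⁻¹ * (g * v * g⁻¹)) := by group
      rw [e]
      refine mul_mem (mem_sup_left hvl) (mem_sup_right ?_)
      have hw : v⁻¹ * (g * v * g⁻¹) ∈ V := mul_mem (inv_mem hvV) hgv
      have hE : ∀ r, pp M g r = r → E M (v⁻¹ * (g * v * g⁻¹)) r = 0 := by
        intro r hr
        have h1 := E_conj (M := M) hg hvV r
        rw [hr] at h1
        rw [Half.SymA.E_mul M (inv_mem hvV) hgv, Half.SymA.E_inv M hvV, h1, CharTwo.add_self_eq_zero]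
      have h1 := h.perp t.pq t.n1 hw (by rw [hE x g1, hE (μ x) g2])
      have h2 := mem_zc.1 h1
      have hQ : QQ (pts (pr M x (μ x)) (pr M x (x.1, 0)) 0) = o2 (centralizer ({pr M x (μ x)} : Set G)) := by
        show O2 (normalizer (pts (pr M x (μ x)) (pr M x (x.1, 0)) 0 : Set G)) = _
        rw [(h.line3 t).normalizer_pts 0]
        rfl
      refine mem_inf.2 ⟨?_, ?_⟩
      · rw [hQ]; exact h2.1
      · rw [hQ, mem_centralizer_iff]
        intro y hy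
        exact h2.2.1 y hy
    have hv0 : pr M x (x.1, 0) ∉ pts (pr M x (μ x)) (pr M x (x.1, 0)) 0 := by
      rw [(h.line3 t).mem_pts]
      rintro (e | e)
      · exact h.pr_ne t.pr t.n2 e
      · have e1 : pr M x (x.1, 0) = pr M x (μ x) := e
        exact (h.line3 t).ne e1.symm
    have h1 := hs g hgN hcond _ ((h.line3 t).dd_mem 1) hv0
    have h1' : (pr M x (x.1, 0) * c)⁻¹ * (g * (pr M x (x.1, 0) * c) * g⁻¹) ∈
        pts (pr M x (μ x)) (pr M x (x.1, 0)) 0 := by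
      have e : (pr M x (x.1, 0) * c)⁻¹ * (g * (pr M x (x.1, 0) * c) * g⁻¹) =
          (pr M x (x.1, 0) * c)⁻¹ * g * (pr M x (x.1, 0) * c) * g⁻¹ := by group
      rw [e]
      exact h1
    rw [(h.line3 t).mem_pts] at h1'
    have hgy := h.amb.conj_mem hg hyV
    have h2 : E M ((pr M x (x.1, 0) * c)⁻¹ * (g * (pr M x (x.1, 0) * c) * g⁻¹)) a =
        E M (pr M x (x.1, 0) * c) a + E M (pr M x (x.1, 0) * c) b := by
      rw [Half.SymA.E_mul M (inv_mem hyV) hgy, Half.SymA.E_inv M hyV, E_conj' hg hyV, hgp, Equiv.swap_inv,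
        Equiv.swap_apply_left]
    have h3 : E M ((pr M x (x.1, 0) * c)⁻¹ * (g * (pr M x (x.1, 0) * c) * g⁻¹)) a = 0 := by
      rcases h1' with e | e
      · rw [e, Half.SymA.E_one]
      · rw [e]
        exact E_pr_of_ne M t.pq ha1 ha2
    rw [h2] at h3
    exact CharTwo.add_eq_zero.1 h3
  refine Half.SymA.inj M hcV (mul_mem (sg_mem h.toSit x.1) (pr_mem M x (μ x))) fun p => ?_
  rw [h.E_zst F hx]
  by_cases p1 : p = x
  · rw [p1, c1, if_pos rfl, if_neg hx, if_pos rfl, if_neg t.n1]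
    decide
  by_cases p2 : p = μ x
  · rw [p2, c2, if_pos (F.mfst x), if_neg fun e => hx (F.mnz.1 e), if_neg t.n1.symm, if_pos rfl]
    decide
  rw [if_neg p1, if_neg p2, add_zero, add_zero]
  by_cases p3 : p.1 = x.1
  · rw [if_pos p3]
    by_cases p4 : p.2 = 0
    · rw [if_pos p4]
      have e : p = (p.1, 0) := Prod.ext rfl p4
      rw [e]; exact c3 _
    · rw [if_neg p4]
      have h1 := key p (x.1, 0) p3 p1 p2 t.n2.symm t.n3.symm
      have hp0 : p ≠ (x.1, 0) := fun e => p4 (by rw [e])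
      rw [Half.SymA.E_mul M hv hcV, Half.SymA.E_mul M hv hcV, E_pr_of_ne M t.pr p1 hp0, E_pr_right M t.pr t.n2, c3,
        zero_add, add_zero] at h1
      exact h1
  · rw [if_neg p3]
    have q1 : ((p.1, 0) : Pt k m) ≠ x := fun e => p3 (by rw [← e])
    have q2 : ((p.1, 0) : Pt k m) ≠ μ x := fun e => p3 (by rw [← F.mfst x, ← e])
    have q3 : ((p.1, 0) : Pt k m) ≠ (x.1, 0) := fun e => p3 (Prod.mk.inj e).1
    have h1 := key p (p.1, 0) rfl p1 p2 q1 q2
    have hp0 : p ≠ (x.1, 0) := fun e => p3 (by rw [e])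
    rw [Half.SymA.E_mul M hv hcV, Half.SymA.E_mul M hv hcV, E_pr_of_ne M t.pr p1 hp0, E_pr_of_ne M t.pr q1 q3, c3,
      zero_add, add_zero] at h1
    exact h1

/-- `V` centralises `⟨n^{C(σ)}⟩` -/
theorem yv (hkm : 2 ≤ k ∨ 3 ≤ m) : HT.Main.YV (ln (h.line3 (h.tri F hx))) (pr M x (μ x))
    ((sg h.toSit x.1).val * pr M x (μ x)) := by
  intro g hg v hv
  have e : (sg h.toSit x.1).val * pr M x (μ x) * pr M x (μ x) = (sg h.toSit x.1).val := by
    rw [mul_assoc, h.pr_sq, mul_one]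
  rw [e] at hg
  exact SwB.esig_of h.toSit h.char2 zv hkm (sg_mem h.toSit x.1) (E_sg h.toSit x.1) hg (h.ln_le (h.tri F hx) hv)
    (pr_mem M x (μ x))

omit zv in
/-- `z* ≠ 1` -/
theorem zst_ne : (sg h.toSit x.1).val * pr M x (μ x) ≠ 1 := by
  intro e
  have h1 := h.E_zst F hx (ν x)
  rw [e, Half.SymA.E_one, if_pos (F.nfst x), if_neg (h.nu_ne F hx), if_neg (F.nne x hx), if_neg (F.nmu x hx)] at h1
  revert h1
  decide

omit zv in
/-- another element of `Z₀` -/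
theorem exists_two (hkm : 2 ≤ k ∨ 3 ≤ m) : ∃ y ∈ zc (tn S M μ x) ⊓
    centralizer ((tn S M μ x ⊔ h.X3 (h.tri F hx) : Subgroup G) : Set G), y ≠ 1 ∧ pr M (ν x) (μ (ν x)) ≠ y := by
  classical
  have hnu := h.nu_ne F hx
  have hnn : ν x ≠ μ (ν x) := (F.mne _ hnu).symm
  rcases hkm with hk | h3
  · -- the other summands
    obtain ⟨y, hy, hE⟩ := Half.SymA.exists_E M (fun p => if p.1 = x.1 then 0 else if p.2 = 0 then 0 else 1) (by
      intro j
      by_cases hj : j = x.1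
      · simp only [hj, if_true, Finset.sum_const_zero]
      · simp only [if_neg hj]
        exact sum_ne_zero h.hm1)
    refine ⟨y, h.mem_Z0 F hx hy (fun s hs => ?_) ?_ ?_ ?_, ?_, ?_⟩
    · rw [h.comm_iff (h.SP hs.1) hy]
      intro p
      rw [hE, hE]
      simp only [h.tn_fst F hx hs p, h.snd hs.1]
    · rw [hE]; exact if_pos rfl
    · rw [hE]; exact if_pos (F.mfst x)
    · rw [hE]; exact if_pos rfl
    · intro e
      obtain ⟨j, hj⟩ : ∃ j : Fin k, j ≠ x.1 := by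
        have : Nontrivial (Fin k) := Fin.nontrivial_iff_two_le.2 hk
        exact exists_ne x.1
      have h1 := hE (j, x.2)
      rw [e, Half.SymA.E_one] at h1
      simp only [if_neg hj, if_neg hx] at h1
      exact zero_ne_one h1
    · intro e
      have h1 := hE (ν x)
      rw [← e, E_pr_left M (F.mfst (ν x)).symm hnn] at h1
      simp only [F.nfst x, if_true] at h1
      exact one_ne_zero h1
  · refine ⟨_, h.zst_mem F hx, h.zst_ne F hx, fun e => ?_⟩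
    -- a further letter
    obtain ⟨c, hc⟩ : ∃ c : Fin (2 ^ m + 1), c ∉ ({0, x.2, (μ x).2, (ν x).2, (μ (ν x)).2} : Finset (Fin (2 ^ m + 1))) := by
      by_contra hcon
      push Not at hcon
      have h1 : (Finset.univ : Finset (Fin (2 ^ m + 1))).card ≤
          ({0, x.2, (μ x).2, (ν x).2, (μ (ν x)).2} : Finset (Fin (2 ^ m + 1))).card :=
        Finset.card_le_card fun c _ => hcon c
      have h2 := Finset.card_le_five (a := (0 : Fin (2 ^ m + 1))) (b := x.2) (c := (μ x).2) (d := (ν x).2)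
        (e := (μ (ν x)).2)
      rw [Finset.card_univ, Fintype.card_fin] at h1
      have h4 : 2 ^ 3 ≤ 2 ^ m := Nat.pow_le_pow_right (by norm_num) h3
      omega
    simp only [Finset.mem_insert, Finset.mem_singleton, not_or] at hc
    obtain ⟨e0, e1, e2, e3, e4⟩ := hc
    have h1 := h.E_zst F hx (x.1, c)
    have f1 : ((x.1, c) : Pt k m) ≠ x := fun e => e1 (congrArg Prod.snd e)
    have f2 : ((x.1, c) : Pt k m) ≠ μ x := fun e => e2 (congrArg Prod.snd e)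
    have f3 : ((x.1, c) : Pt k m) ≠ ν x := fun e => e3 (congrArg Prod.snd e)
    have f4 : ((x.1, c) : Pt k m) ≠ μ (ν x) := fun e => e4 (congrArg Prod.snd e)
    rw [← e, E_pr_of_ne M (F.mfst (ν x)).symm f3 f4, if_pos rfl, if_neg e0, if_neg f1, if_neg f2] at h1
    revert h1
    decide

/-- **no T-T partner**, from LEMMA E -/
theorem false_of_le (hkm : 2 ≤ k ∨ 3 ≤ m)
    (hLE : ∀ i, HTwo.ThmA.LE (ln (h.line3 (h.tri F hx))) (pts (pr M x (μ x)) (pr M x (x.1, 0))) i) : False := by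
  have syl : ∀ {y : Pt k m}, y.2 ≠ 0 → ¬ 2 ∣ (tn S M μ y).relIndex (centralizer ({pr M y (μ y)} : Set G)) :=
    fun hy => h.syl F hy
  have b := h.htt F hx zv (syl hx)
  obtain ⟨y, hy, hy1, hne⟩ := h.exists_two F hx hkm
  refine HT.Main.false_of_y b hLE (h.R_zero F hx zv (syl hx)) (h.odd_MZ F hx zv syl) (fun c hc hs => ?_)
    (h.sib_mem F hx) hy (h.sib_ne F hx) hy1 hne
  exact ⟨_, h.zst_mem F hx, h.zst_ne F hx, Or.inr (h.sig_eq F hx zv hc hs), h.core F hx zv (syl hx) (h.zst_mem F hx),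
    h.yv F hx zv hkm⟩

end Fr

end Cfsg.Agent.Omega.IId.SymWr.Ht

end

-- merged: Cfsg.Agent.Mrg.Omega.IId.SymWr.Ht.Done
section

/-!
# II.d, `SwBig`, T-T (bb OMEGA #19775, #19821, #19862, #20093, #20414): the frame `Ht.Fr` does not exist

`Fr.false` : `V` = the sum of `k` even-subset modules of degree `2 ^ m + 1` (`m ≥ 2`; `k ≥ 2` or `m ≥ 3`), (H1), and a
non-commuting pair `V`, `V ^ t`, `t ∈ C_G(n)`, `n` a duad: contradiction.
-/

set_option autoImplicit false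

namespace Cfsg.Agent.Omega.IId.SymWr.Ht

open Subgroup Cfsg Cfsg.Agent.Omega.FFThm
open Cfsg.Agent.Omega.Half.SymA (Pt)

universe u

variable {G : Type u} [Group G] [Finite G] {k m : ℕ} {S : Sylow 2 G} {P V : Subgroup G}
  {M : SymK (S : Subgroup G) P V ⊥ k m}

/-- **no T-T partner** -/
theorem Fr.false (h : Fr S P V M) (hkm : 2 ≤ k ∨ 3 ≤ m) : False := by
  obtain ⟨μ, ν, F⟩ := exists_fours h.toSit
  obtain ⟨c, -, hc⟩ := Half.SymA.exists_third h.hm1 0 0
  obtain ⟨x, hx⟩ : ∃ x : Pt k m, x.2 ≠ 0 := ⟨(⟨0, h.hk⟩, c), hc⟩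
  have syl : ¬ 2 ∣ (tn S M μ x).relIndex (centralizer ({pr M x (μ x)} : Set G)) := h.syl F hx
  exact h.false_of_le F hx h.zv.le hkm fun i =>
    LEFr.le_tn h h.zv.le F hx (h.htt F hx h.zv.le syl).toBTS syl i

end Cfsg.Agent.Omega.IId.SymWr.Ht

end

-- merged: Cfsg.Agent.Mrg.Omega.IId.SwB.Core
section

/-!
# II.d, `SwBig`: the pure and the mixed case (bb OMEGA #19821, #20093, #20414)

`h : SN S P V M` (THEOREM L and a partner for all duads of `V`), `n = pr M p q` a duad.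

* `SN.exists_side` : the side `Side` at `n`, `|S| = k 2^(m-1) |T|`, `T` a Sylow 2-subgroup of `C_G(n)`;
* `SN.pure_false` : the conjugates of `V` under `C_G(n)` commute (`Ht.Fr.false`);
* **`false_sym`** : a second module of type `S_{2^m'+1}` with the duad `n`: impossible;
* **`false_nat`** : a module with natural factors, `q' = 2`, with the line `⟨n⟩`: impossible.
-/

set_option autoImplicit false
set_option linter.unusedSectionVars false

namespace Cfsg.Agent.Omega.IId.SwB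

open Subgroup Cfsg Cfsg.Agent.Omega.MinPar Cfsg.Agent.Omega.FFThm
open Cfsg.Agent.ZN (o2 zc zl)
open Cfsg.Agent.Lib.SL2Mat
open Cfsg.Agent.Omega.FrameMulti
open Cfsg.Agent.Omega.Half.SymA (Pt E Mv pm)
open Cfsg.Agent.Omega.Mix (RMod)
open Cfsg.Agent.Omega.BTwo (mem_cj cj_mono cj_eq_self_iff conj_mem_cj cj_inv_cj cj_cj_inv)
open Cfsg.Agent.Omega.IId.SymWr
open Cfsg.Agent.Omega.IId.SymWr.Ht (tn)

universe u

variable {G : Type u} [Group G]

/-! ### Conjugates of a side -/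

section conj

variable {F : Type*} [Field F] {L N : Subgroup G} {M : RMod F L N} {r : G} {T D : Subgroup G}

/-- conjugates -/
theorem Side.conjAll (A : Side M r T D) (c : G) :
    Side (M.conj c) (c * r * c⁻¹) (BTwo.cj c T) (BTwo.cj c D) := by
  have hcC : BTwo.cj c (centralizer ({r} : Set G)) = centralizer ({c * r * c⁻¹} : Set G) :=
    (Triangle.cent_conj c r).symm
  obtain ⟨w, hw, hl⟩ := A.line
  refine ⟨A.two, ⟨w, hw, fun g => ?_⟩, fun e => A.r1 (conj_eq_one_iff.1 e), A.T2.map _, cj_mono A.TN, ?_, ?_,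
    cj_mono A.LT, cj_mono A.DN, ?_, ?_, ?_⟩
  · rw [M.conj_line]
    change g ∈ BTwo.cj c (M.line w) ↔ _
    rw [mem_cj, hl]
    constructor
    · rintro (h | h)
      · left
        have : g = c * (c⁻¹ * g * c) * c⁻¹ := by group
        rw [this, h]; group
      · right
        rw [← h]; group
    · rintro (rfl | rfl)
      · left; group
      · right; group
  · rw [← hcC]; exact cj_mono A.TC
  · have h1 : (BTwo.cj c T).relIndex (BTwo.cj c (centralizer ({r} : Set G))) =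
        T.relIndex (centralizer ({r} : Set G)) :=
      relIndex_map_map_of_injective _ _ (MulAut.conj c).injective
    rw [hcC] at h1
    rw [h1]
    exact A.odd
  · intro B
    obtain ⟨g, hg, h1⟩ := A.lift B
    refine ⟨c * g * c⁻¹, conj_mem_cj hg, fun x => ?_⟩
    change c * g * c⁻¹ * (c * M.e x * c⁻¹) * (c * g * c⁻¹)⁻¹ = c * M.e (NatPair.ap B x) * c⁻¹
    rw [← h1]
    group
  · intro f hf
    have hf' : c⁻¹ * f * c ∈ zc T := by
      obtain ⟨h1, h2, h3⟩ := MinSimple.VModule.mem_zc.1 hf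
      refine MinSimple.VModule.mem_zc.2 ⟨?_, fun y hy => ?_, ?_⟩
      · rw [← mem_cj]; exact h1
      · have h5 := h2 _ (conj_mem_cj (g := c) hy)
        calc y * (c⁻¹ * f * c) = c⁻¹ * (c * y * c⁻¹ * f) * c := by group
          _ = c⁻¹ * (f * (c * y * c⁻¹)) * c := by rw [h5]
          _ = c⁻¹ * f * c * y := by group
      · calc (c⁻¹ * f * c) ^ 2 = c⁻¹ * (f ^ 2) * c := by rw [pow_two, pow_two]; group
          _ = 1 := by rw [h3]; group
    obtain ⟨u, hu, z, e, hz⟩ := A.split _ hf'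
    refine ⟨c * u * c⁻¹, ?_, c * z * c⁻¹, ?_, fun g hg => ?_⟩
    · rcases hu with rfl | rfl
      · left; group
      · right; rfl
    · calc f = c * (c⁻¹ * f * c) * c⁻¹ := by group
        _ = c * (u * z) * c⁻¹ := by rw [e]
        _ = c * u * c⁻¹ * (c * z * c⁻¹) := by group
    · rw [mem_cj] at hg
      have h1 := hz _ hg
      calc g * (c * z * c⁻¹) = c * (c⁻¹ * g * c * z) * c⁻¹ := by group
        _ = c * (z * (c⁻¹ * g * c)) * c⁻¹ := by rw [h1]
        _ = c * z * c⁻¹ * g := by group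
  · intro H hT hD
    have e1 : BTwo.cj c (BTwo.cj c⁻¹ H) = H := cj_cj_inv c H
    have hT' : T ≤ BTwo.cj c⁻¹ H := by
      have := cj_mono (g := c⁻¹) hT
      rwa [cj_inv_cj] at this
    have hD' : D ≤ BTwo.cj c⁻¹ H := by
      have := cj_mono (g := c⁻¹) hD
      rwa [cj_inv_cj] at this
    have h1 := A.loc _ hT' hD'
    intro q hq
    rw [mem_centralizer_iff]
    intro v hv
    have hv' : c⁻¹ * v * c ∈ L := by rw [← mem_cj]; exact hv
    have hq' : c⁻¹ * q * c ∈ BTwo.O2 (BTwo.cj c⁻¹ H) := by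
      rw [← BTwo.cj_O2, mem_cj, inv_inv]
      have e : c * (c⁻¹ * q * c) * c⁻¹ = q := by group
      rw [e]; exact hq
    have h2 := mem_centralizer_iff.1 (h1 hq') _ hv'
    calc v * q = c * (c⁻¹ * v * c * (c⁻¹ * q * c)) * c⁻¹ := by group
      _ = c * (c⁻¹ * q * c * (c⁻¹ * v * c)) * c⁻¹ := by rw [h2]
      _ = q * v := by group

/-- `|Ω₁Z(T) ∩ C(D)| ≥ 4` -/
def HasPair (T D : Subgroup G) : Prop :=
  ∃ a d : G, (a ∈ zc T ∧ ∀ g ∈ D, g * a = a * g) ∧ (d ∈ zc T ∧ ∀ g ∈ D, g * d = d * g) ∧ a ≠ 1 ∧ d ≠ 1 ∧ a * d ≠ 1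

theorem HasPair.conj (h : HasPair T D) (c : G) : HasPair (BTwo.cj c T) (BTwo.cj c D) := by
  obtain ⟨a, d, ⟨ha, ha'⟩, ⟨hd, hd'⟩, h1, h2, h3⟩ := h
  have key : ∀ {a : G}, a ∈ zc T → (∀ g ∈ D, g * a = a * g) →
      c * a * c⁻¹ ∈ zc (BTwo.cj c T) ∧ ∀ g ∈ BTwo.cj c D, g * (c * a * c⁻¹) = c * a * c⁻¹ * g := by
    intro a ha ha'
    obtain ⟨k1, k2, k3⟩ := MinSimple.VModule.mem_zc.1 ha
    refine ⟨MinSimple.VModule.mem_zc.2 ⟨conj_mem_cj k1, fun y hy => ?_, ?_⟩, fun g hg => ?_⟩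
    · rw [mem_cj] at hy
      have k4 := k2 _ hy
      calc y * (c * a * c⁻¹) = c * (c⁻¹ * y * c * a) * c⁻¹ := by group
        _ = c * (a * (c⁻¹ * y * c)) * c⁻¹ := by rw [k4]
        _ = c * a * c⁻¹ * y := by group
    · calc (c * a * c⁻¹) ^ 2 = c * (a ^ 2) * c⁻¹ := by rw [pow_two, pow_two]; group
        _ = 1 := by rw [k3]; group
    · rw [mem_cj] at hg
      have k4 := ha' _ hg
      calc g * (c * a * c⁻¹) = c * (c⁻¹ * g * c * a) * c⁻¹ := by group
        _ = c * (a * (c⁻¹ * g * c)) * c⁻¹ := by rw [k4]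
        _ = c * a * c⁻¹ * g := by group
  refine ⟨c * a * c⁻¹, c * d * c⁻¹, key ha ha', key hd hd', fun e => h1 (conj_eq_one_iff.1 e),
    fun e => h2 (conj_eq_one_iff.1 e), fun e => h3 ?_⟩
  have e1 : c * a * c⁻¹ * (c * d * c⁻¹) = c * (a * d) * c⁻¹ := by group
  rw [e1] at e
  exact conj_eq_one_iff.1 e

end conj

/-! ### The side of a module of type `S_{2^m+1}` -/

section sym

variable [Finite G] {S : Sylow 2 G} {P V : Subgroup G} {k m : ℕ} {M : SymK (S : Subgroup G) P V ⊥ k m}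

/-- The side at the duad `n`. -/
structure SideAt (S V : Subgroup G) (n : G) (k m : ℕ) (b : G → Prop) (L N : Subgroup G) (R : RMod (ZMod 2) L N)
    (T D : Subgroup G) : Prop where
  side : Side R n T D
  le : L ≤ V
  ne : ∃ v ∈ L, b v
  card : Nat.card S = k * 2 ^ (m - 1) * Nat.card T
  pair : 2 ≤ k → HasPair T D

theorem exists_side (h : SN S P V M) {p q : Pt k m} (hpq : p.1 = q.1) (pq : p ≠ q) :
    ∃ (L N : Subgroup G) (R : RMod (ZMod 2) L N) (T D : Subgroup G),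
      SideAt (S : Subgroup G) V (pr M p q) k m (fun v => E M v p ≠ E M v q) L N R T D := by
  obtain ⟨μ, ν, F⟩ := exists_fours h.toSit
  obtain ⟨c, -, hc⟩ := Half.SymA.exists_third h.hm1 0 0
  obtain ⟨x, hx⟩ : ∃ x : Pt k m, x.2 ≠ 0 := ⟨(⟨0, h.hk⟩, c), hc⟩
  have hzv : zc (o2 P) ≤ V := fun z hz => by
    have h1 := MinSimple.VModule.mem_zc.1 hz
    exact h.zv (by rw [← pow_two]; exact h1.2.2) h1.2.1
  have syl : ¬ 2 ∣ (tn S M μ x).relIndex (centralizer ({pr M x (μ x)} : Set G)) := h.sylT F hx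
  have t := SymS.tri F hx
  obtain ⟨g, hg, hgn⟩ := exists_conj_pr h.toSit hpq pq t.pq t.n1
  have hgn' : g⁻¹ * pr M x (μ x) * g⁻¹⁻¹ = pr M p q := by rw [← hgn]; group
  have A := (SymS.side h.toSit F hx hzv syl).conjAll g⁻¹
  rw [hgn'] at A
  refine ⟨_, _, _, _, _, A, ?_, ?_, ?_, fun hk => ?_⟩
  · intro v hv
    have h1 : v ∈ BTwo.cj g⁻¹ (SymS.L3 M x (μ x) (x.1, 0)) := hv
    rw [mem_cj, inv_inv] at h1
    have h2 := h.amb.conj_mem (inv_mem hg) (SymS.L3_le h1)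
    have e : g⁻¹ * (g * v * g⁻¹) * g⁻¹⁻¹ = v := by group
    rwa [e] at h2
  · have ha := pr_mem M x (x.1, 0)
    have hBl : pr M x (x.1, 0) ∈ SymS.L3 M x (μ x) (x.1, 0) := ⟨ha, fun s h1 _ h3 => E_pr_of_ne M t.pr h1 h3⟩
    refine ⟨g⁻¹ * pr M x (x.1, 0) * g⁻¹⁻¹, conj_mem_cj hBl, ?_⟩
    have key : ∀ s, E M (g⁻¹ * pr M x (x.1, 0) * g⁻¹⁻¹) s = E M (pr M x (x.1, 0)) (pp M g s) := by
      intro s
      have h1 := E_conj (M := M) (inv_mem hg) ha (pp M g s)
      rw [h.inv hg] at h1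
      have e : (pp M g)⁻¹ (pp M g s) = s := (pp M g).symm_apply_apply s
      rwa [e] at h1
    have h2 : pr M (pp M g p) (pp M g q) = pr M x (μ x) := by rw [← h.conj_pr hg hpq, hgn]
    have e1 : E M (pr M x (x.1, 0)) x = 1 := E_pr_left M t.pr t.n2
    have e2 : E M (pr M x (x.1, 0)) (μ x) = 0 := E_pr_of_ne M t.pr t.n1.symm t.n3
    show E M _ p ≠ E M _ q
    rw [key, key]
    rcases Mixed.pair_eq (h.fst hg hpq) t.pq (fun e => pq ((pp M g).injective e)) h2 with ⟨a, b⟩ | ⟨a, b⟩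
    · rw [a, b, e1, e2]; exact one_ne_zero
    · rw [a, b, e1, e2]; exact zero_ne_one
  · have h1 : Nat.card (BTwo.cj g⁻¹ (tn S M μ x)) = Nat.card (tn S M μ x) :=
      Nat.card_congr ((tn S M μ x).equivMapOfInjective _ (MulAut.conj g⁻¹).injective).symm.toEquiv
    rw [h1]
    exact card_S h.toSit F hx
  · exact HasPair.conj (SymS.exists_pair h.toSit F hx hzv syl hk) g⁻¹

/-- **no T-T pair** -/
theorem pure_false (h : SN S P V M) (hkm : 2 ≤ k ∨ 3 ≤ m) {p q : Pt k m} (hpq : p.1 = q.1) (pq : p ≠ q) {t : G}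
    (ht : t ∈ centralizer ({pr M p q} : Set G)) {v w : G} (hv : v ∈ V) (hw : w ∈ V) :
    v * (t * w * t⁻¹) = t * w * t⁻¹ * v := by
  by_contra hne
  exact Ht.Fr.false (S := S) (P := P) (V := V) (M := M)
    { toSit := h.toSit
      char2 := h.c2
      Qle := fun {p q} h1 h2 => h.QP p q h1 h2
      par := ⟨p, q, hpq, pq, t, ht, v, hv, w, hw, hne⟩ } hkm

end sym

/-! ### The theorems -/

section main

variable [Finite G] {S S' : Sylow 2 G} {P P' V V' : Subgroup G} {k k' m m' : ℕ}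

theorem card_sylow (S S' : Sylow 2 G) : Nat.card (S' : Subgroup G) = Nat.card (S : Subgroup G) := by
  rw [S.card_eq_multiplicity, S'.card_eq_multiplicity]

theorem card_eq_of_side {F F' : Type*} [Field F] [Field F'] {L N L' N' : Subgroup G} {R : RMod F L N}
    {R' : RMod F' L' N'} {r : G} {T D T' D' : Subgroup G} (A : Side R r T D) (B : Side R' r T' D') :
    Nat.card T' = Nat.card T :=
  Nat.dvd_antisymm (HT.card_dvd_card A.TC A.odd B.T2 B.TC) (HT.card_dvd_card B.TC B.odd A.T2 A.TC)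

/-- **Two modules of type `S_{2^m+1}`.** -/
theorem false_sym {M : SymK (S : Subgroup G) P V ⊥ k m} {M' : SymK (S' : Subgroup G) P' V' ⊥ k' m'}
    (h : SN S P V M) (h' : SN S' P' V' M') (hk : 2 ≤ k) {p q : Pt k m} (hpq : p.1 = q.1) (pq : p ≠ q)
    {p' q' : Pt k' m'} (hpq' : p'.1 = q'.1) (pq' : p' ≠ q') (en : pr M p q = pr M' p' q')
    (hne : ∀ v ∈ V, ∀ w ∈ V', E M v p ≠ E M v q → E M' w p' ≠ E M' w q' → v * w ≠ w * v) : False := by
  obtain ⟨L, N, R, T, D, A⟩ := exists_side h hpq pq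
  obtain ⟨L', N', R', T', D', B⟩ := exists_side h' hpq' pq'
  have B1 := B.side
  rw [← en] at B1
  have hc := card_eq_of_side A.side B1
  have h1 : k * 2 ^ (m - 1) = k' * 2 ^ (m' - 1) := by
    have h2 := A.card
    have h3 := B.card
    rw [card_sylow S S', h2, hc] at h3
    exact Nat.eq_of_mul_eq_mul_right Nat.card_pos h3
  have hkm' : 2 ≤ k' ∨ 3 ≤ m' := by
    by_contra hcon
    push Not at hcon
    have h2 : 2 ≤ 2 ^ (m - 1) := by
      have h3 : 1 ≤ m - 1 := by have := h.hm; omega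
      calc 2 = 2 ^ 1 := by norm_num
        _ ≤ 2 ^ (m - 1) := Nat.pow_le_pow_right (by norm_num) h3
    have h4 : k' = 1 := by have := h'.hk; omega
    have h5 : m' = 2 := by have := h'.hm; omega
    rw [h4, h5] at h1
    norm_num at h1
    nlinarith
  obtain ⟨v, hv, hvE⟩ := A.ne
  obtain ⟨w, hw, hwE⟩ := B.ne
  refine mixed_false h.c2 A.side B1 (A.pair hk) ?_ ?_ ⟨v, hv, w, hw, hne v (A.le hv) w (B.le hw) hvE hwE⟩
  · exact fun g hg v hv w hw => pure_false h (Or.inl hk) hpq pq hg (A.le hv) (A.le hw)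
  · intro g hg v hv w hw
    rw [en] at hg
    exact pure_false h' hkm' hpq' pq' hg (B.le hv) (B.le hw)

/-- **A module of type `S_{2^m+1}` and a module with natural factors.** -/
theorem false_nat {M : SymK (S : Subgroup G) P V ⊥ k m} {F' : Type} [Field F'] [Finite F'] [CharP F' 2]
    {M' : NatK F' (S' : Subgroup G) P' (zl (S' : Subgroup G) P') ⊥ k'} (h : SN S P V M) (hk : 2 ≤ k)
    {p q : Pt k m} (hpq : p.1 = q.1) (pq : p ≠ q) {i : Fin k'} (hP' : IsParS (S' : Subgroup G) P') (hC : CC M')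
    (hF : Nat.card F' = 2) (hfr : Big.Fr (S' : Subgroup G) (fac M')) (hr : pr M p q ∈ line M' i)
    (hne : ∃ w ∈ fac M' i, ∀ v ∈ V, E M v p ≠ E M v q → v * w ≠ w * v) : False := by
  have hSP' : (S' : Subgroup G) ≤ P' := hP'.isLoc.le
  obtain ⟨L, N, R, T, D, A⟩ := exists_side h hpq pq
  have hn1 : pr M p q ≠ 1 := A.side.r1
  have h2 : 2 ≤ 2 ^ (m - 1) := by
    have h3 : 1 ≤ m - 1 := by have := h.hm; omega
    calc 2 = 2 ^ 1 := by norm_num
      _ ≤ 2 ^ (m - 1) := Nat.pow_le_pow_right (by norm_num) h3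
  have hcS := card_stab M' hSP' i
  have hT' : stab M' i ≤ centralizer ({pr M p q} : Set G) := fun t ht =>
    mem_centralizer_singleton_iff.2 (stab_comm_line M' hSP' hF hr ht)
  have hT2' : IsPGroup 2 (stab M' i) := S'.isPGroup'.to_le (stab_le M' i)
  have hle := Nat.le_of_dvd Nat.card_pos (HT.card_dvd_card A.side.TC A.side.odd hT2' hT')
  have hcard := A.card
  rw [card_sylow S S', hcard] at hcS
  have hTpos : 0 < Nat.card T := Nat.card_pos
  -- `k' ≥ 4`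
  have h4 : k * 2 ^ (m - 1) ≤ k' := by
    by_contra hcon
    push Not at hcon
    have h5 : k' * Nat.card (stab M' i) ≤ k' * Nat.card T := Nat.mul_le_mul_left _ hle
    have h6 : k' * Nat.card T < k * 2 ^ (m - 1) * Nat.card T := Nat.mul_lt_mul_of_pos_right hcon hTpos
    omega
  have h5 : 4 ≤ k' := le_trans (by nlinarith) h4
  have hodd := Big.Syl.stab_sylow h.c2 hP' hC hF hfr (by omega) i
  have B : Big.Syl.Sit M' i := ⟨h.c2, hP', hC, hF, by omega, hfr, hodd⟩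
  have B1 := side_of_sit B hr hn1
  obtain ⟨v, hv, hvE⟩ := A.ne
  obtain ⟨w, hw, hwv⟩ := hne
  refine mixed_false h.c2 A.side B1 (A.pair hk) ?_ ?_ ⟨v, hv, w, hw, hwv v (A.le hv) hvE⟩
  · exact fun g hg v hv w hw => pure_false h (Or.inl hk) hpq pq hg (A.le hv) (A.le hw)
  · intro g hg v hv w hw
    by_contra hne
    refine B.unm_false (c := g) ?_ ⟨v, hv, w, hw, hne⟩
    rw [B.norm_line hr hn1]
    exact hg

end main

end Cfsg.Agent.Omega.IId.SwB

end
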